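import Cfsg.Agent.Twisted.Groups.F4Inst

/-!
The matrix coefficient at the highest root on the twisted group of type F4 (helper55).
-/

set_option autoImplicit false
set_option maxRecDepth 4000
set_option linter.unusedSectionVars false

namespace Cfsg.Agent.F4Cover55

open Cfsg.Lie ChevGroup ChevIsogeny Twisted Twisted.TypeF4

/-- the highest root -/
def hi : Fin MT.tab.n := 47

/-- cosets of the parabolic subgroup fixing the highest root -/
def stepP : TStepData MT.tab.n 2 where
  m := 8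
  KS := [0, 1]
  JS := [1]
  rep :=
    [[], [0], [1, 0], [0, 1, 0], [1, 0, 1, 0], [0, 1, 0, 1, 0], [1, 0, 1, 0, 1, 0],
    [0, 1, 0, 1, 0, 1, 0]]
  tgt :=
    [[1, 0, 3, 2, 5, 4, 7, 6], [0, 2, 1, 4, 3, 6, 5, 7]]
  v :=
    [[[], [], [], [], [], [], [], []], [[1], [], [], [], [], [], [], [1]]]
  span := ([24, 26, 29, 31, 32, 33, 34, 35, 36, 37, 38, 39, 40, 41, 42, 43, 44, 45, 46, 47] : List (Fin 48))

theorem stepP_ok : orb.stepB MT.S stepP = true := by decide +kernel

theorem key_le_hi : ∀ a : chevF4.Idx, keyOf chevF4 a ≤ keyOf chevF4 (MT.coord hi) := by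
  rintro (i | r)
  · show (chevF4.nroots : ℤ) ≤ 2 * ((hi : Fin MT.tab.n).val : ℤ) + 1
    have h : ((hi : Fin MT.tab.n).val : ℤ) = 47 := rfl
    have h2 : (chevF4.nroots : ℤ) = 48 := rfl
    omega
  · show 2 * (r.val : ℤ) + 1 ≤ 2 * ((hi : Fin MT.tab.n).val : ℤ) + 1
    have : r.val < 48 := r.isLt
    have h : ((hi : Fin MT.tab.n).val : ℤ) = 47 := rfl
    omega

variable {F : Type*} [Field F] [Fintype F] {m : ℕ} {K : Rels chevF4 F}
  (Z : Frame (T := MT) K PP (2 ^ m) fd) (hK : Fintype.card F = 2 ^ (2 * m + 1))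

set_option quotPrecheck false in
local notation "G₁" => genG MT K (f4Words F (2 ^ m))

set_option quotPrecheck false in
local notation "DT" => (gens Z hK).data

variable (K) in
/-- the coefficient at the highest root -/
def dd (g : ↥(chevF4.group F)) : F := (MT.shapeR K).mat g (MT.coord hi) (MT.coord hi)

omit [Fintype F] in
theorem col_U {u : ↥(chevF4.group F)} (hu : u ∈ (MT.rel K).U) (a : chevF4.Idx) :
    (MT.shapeR K).mat u a (MT.coord hi) = if a = MT.coord hi then 1 else 0 :=
  (MT.shapeR K).uni_of_U hu a _ (key_le_hi a)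

omit [Fintype F] in
theorem row_V {v : ↥(chevF4.group F)} (hv : v ∈ V (MT.rel K)) (b : chevF4.Idx) :
    (MT.shapeR K).mat v (MT.coord hi) b = if MT.coord hi = b then 1 else 0 :=
  low_of_V (MT.rel K) (MT.shapeR K) hv _ b (neg_le_neg (key_le_hi b))

omit [Fintype F] in
theorem dd_left_V {v : ↥(chevF4.group F)} (hv : v ∈ V (MT.rel K)) (g : ↥(chevF4.group F)) :
    dd K (v * g) = dd K g := by
  rw [dd, (MT.shapeR K).mat_mul, Matrix.mul_apply, Finset.sum_eq_single (MT.coord hi)]
  · rw [row_V hv, if_pos rfl, one_mul]; rfl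
  · intro c _ hc; rw [row_V hv, if_neg (Ne.symm hc), zero_mul]
  · simp

variable (K) in
/-- the line at the highest root is fixed -/
def FixLine (g : ↥(chevF4.group F)) : Prop :=
  ∀ a, a ≠ MT.coord hi → (MT.shapeR K).mat g a (MT.coord hi) = 0

omit [Fintype F] in
theorem dd_right {p : ↥(chevF4.group F)} (hp : FixLine K p) (g : ↥(chevF4.group F)) :
    dd K (g * p) = dd K g * dd K p := by
  rw [dd, (MT.shapeR K).mat_mul, Matrix.mul_apply, Finset.sum_eq_single (MT.coord hi)]
  · rfl
  · intro c _ hc; rw [hp c hc, mul_zero]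
  · simp

omit [Fintype F] in
theorem FixLine.mul {g h : ↥(chevF4.group F)} (hg : FixLine K g) (hh : FixLine K h) :
    FixLine K (g * h) := by
  intro a ha
  rw [(MT.shapeR K).mat_mul, Matrix.mul_apply]
  refine Finset.sum_eq_zero fun c _ => ?_
  by_cases hc : c = MT.coord hi
  · subst hc; rw [hg a ha, zero_mul]
  · rw [hh c hc, mul_zero]

omit [Fintype F] in
theorem fixLine_U {u : ↥(chevF4.group F)} (hu : u ∈ (MT.rel K).U) : FixLine K u ∧ dd K u = 1 :=
  ⟨fun a ha => by rw [col_U hu, if_neg ha], by rw [dd, col_U hu, if_pos rfl]⟩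

omit [Fintype F] in
theorem dd_right_U {u : ↥(chevF4.group F)} (hu : u ∈ (MT.rel K).U) (g : ↥(chevF4.group F)) :
    dd K (g * u) = dd K g := by
  rw [dd_right (fixLine_U hu).1, (fixLine_U hu).2, mul_one]

omit [Fintype F] in
theorem fixLine_H {h : ↥(chevF4.group F)} (hh : h ∈ (MT.rel K).H) : FixLine K h := fun a ha =>
  (MT.shapeR K).diag_of_H hh a _ ha

omit [Fintype F] in
theorem dd_left_H {h : ↥(chevF4.group F)} (hh : h ∈ (MT.rel K).H) (g : ↥(chevF4.group F)) :
    dd K (h * g) = dd K h * dd K g := by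
  rw [dd, (MT.shapeR K).mat_mul, Matrix.mul_apply, Finset.sum_eq_single (MT.coord hi)]
  · rfl
  · intro c _ hc; rw [(MT.shapeR K).diag_of_H hh _ c (Ne.symm hc), zero_mul]
  · simp

omit [Fintype F] in
theorem dd_one : dd K (1 : ↥(chevF4.group F)) = 1 := by
  rw [dd, (MT.shapeR K).mat_one, Matrix.one_apply_eq]

omit [Fintype F] in
theorem dd_H_ne {h : ↥(chevF4.group F)} (hh : h ∈ (MT.rel K).H) : dd K h ≠ 0 := by
  intro e
  have h1 : dd K (h⁻¹ * h) = dd K h⁻¹ * dd K h := dd_right (fixLine_H hh) _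
  rw [inv_mul_cancel, dd_one, e, mul_zero] at h1
  exact one_ne_zero h1

omit [Fintype F] in
theorem fixLine_coset {g : ↥(chevF4.group F)} {w : List (Fin MT.tab.l)} (hg : InCoset (MT.rel K) g w)
    (hw : (MT.S).actw w hi = hi) : FixLine K g := by
  obtain ⟨h, hh, rfl⟩ := hg
  refine (fixLine_H hh).mul fun a ha => ?_
  exact (MT.shapeR K).mono_word w hi a (by rw [hw]; exact ha)

omit [Fintype F] in
theorem dd_coset_zero {g : ↥(chevF4.group F)} {w : List (Fin MT.tab.l)} (hg : InCoset (MT.rel K) g w)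
    (hw : (MT.S).actw w hi ≠ hi) : dd K g = 0 := by
  obtain ⟨h, hh, rfl⟩ := hg
  rw [dd_left_H hh]
  have : dd K ((MT.rel K).nw w) = 0 :=
    (MT.shapeR K).mono_word w hi _ fun e => hw ((MT.shapeR K).e_inj e).symm
  rw [this, mul_zero]

/-- the diagonal entries of the torus -/
theorem tor_diag (c : Fin MT.tab.l → Fˣ) (r : Fin MT.tab.n) :
    (MT.shapeR K).mat (tor MT K c) (MT.coord r) (MT.coord r) = (chi MT c r : F) := by
  have key : ∀ L : List (Fin MT.tab.l),
      (MT.shapeR K).mat ((L.map fun i => (MT.rel K).hr ((MT.S).simple i) (c i : F)).prod)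
          (MT.coord r) (MT.coord r) =
        (((L.map fun i => c i ^ chevF4.pairing ((MT.S).simple i).val r.val).prod : Fˣ) : F) := by
    intro L
    induction L with
    | nil => simp only [List.map_nil, List.prod_nil]; rw [(MT.shapeR K).mat_one, Matrix.one_apply_eq]; rfl
    | cons i L ih =>
      have hh : (MT.rel K).hr ((MT.S).simple i) (c i : F) ∈ (MT.rel K).H :=
        (MT.rel K).hr_mem_H (c i).ne_zero
      simp only [List.map_cons, List.prod_cons, Units.val_mul]
      rw [(MT.shapeR K).mat_mul, Matrix.mul_apply, Finset.sum_eq_single (MT.coord r), ih]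
      · congr 1
        show Model.mat (hOf (MT.S).neg (MT.xG K) ((MT.S).simple i) (c i : F)) _ _ = _
        rw [MT.mat_hOf, K.h_diag _ (MT.lt _) _ (c i).ne_zero, Matrix.diagonal_apply_eq]
        simp [Model.coord, Units.val_zpow_eq_zpow_val]
      · intro a _ ha; rw [(MT.shapeR K).diag_of_H hh _ a (Ne.symm ha), zero_mul]
      · simp
  rw [tor, key, chi, ← List.ofFn_eq_map, List.prod_ofFn]

theorem dd_tor (c : Fin MT.tab.l → Fˣ) : dd K (tor MT K c) = (chi MT c hi : F) := tor_diag c hi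

include Z in
/-- a monomial element times a torus element -/
theorem dd_conj_tor {g : ↥(chevF4.group F)} {w : List (Fin MT.tab.l)} (hg : InCoset (MT.rel K) g w)
    (c : Fin MT.tab.l → Fˣ) :
    dd K (g⁻¹ * tor MT K c * g) = (chi MT c ((MT.S).actw w hi) : F) := by
  obtain ⟨h, hh, rfl⟩ := hg
  have hH : ((h * (MT.rel K).nw w)⁻¹ * tor MT K c * (h * (MT.rel K).nw w)) ∈ (MT.rel K).H := by
    have h1 : h⁻¹ * tor MT K c * h ∈ (MT.rel K).H :=
      mul_mem (mul_mem (inv_mem hh) (Z.tor_mem_H c)) hh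
    simpa [mul_assoc] using (MT.rel K).nw_inv_conj_mem_H w h1
  set g := h * (MT.rel K).nw w
  set r := MT.coord ((MT.S).actw w hi)
  have hne : (MT.shapeR K).mat g r (MT.coord hi) ≠ 0 := by
    rw [(MT.shapeR K).mat_mul, Matrix.mul_apply, Finset.sum_eq_single r]
    · refine mul_ne_zero ?_ ((MT.shapeR K).mono_word_ne w hi)
      exact ((MT.shapeR K).tri_of_B ((MT.rel K).H_le_B hh)).2 r
    · intro a _ ha; rw [(MT.shapeR K).diag_of_H hh _ a (Ne.symm ha), zero_mul]
    · simp
  have e : tor MT K c * g = g * (g⁻¹ * tor MT K c * g) := by group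
  have e' : (MT.shapeR K).mat (tor MT K c * g) r (MT.coord hi) =
      (MT.shapeR K).mat (g * (g⁻¹ * tor MT K c * g)) r (MT.coord hi) := by rw [← e]
  rw [(MT.shapeR K).mat_mul, (MT.shapeR K).mat_mul g, Matrix.mul_apply, Matrix.mul_apply,
    Finset.sum_eq_single r, Finset.sum_eq_single (MT.coord hi)] at e'
  · rw [tor_diag, mul_comm] at e'
    exact (mul_left_cancel₀ hne e').symm
  · intro a _ ha
    exact mul_eq_zero_of_right _ ((MT.shapeR K).diag_of_H hH a _ ha)
  · simp
  · intro a _ ha; rw [(MT.shapeR K).diag_of_H (Z.tor_mem_H c) _ a (Ne.symm ha), zero_mul]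
  · simp

end Cfsg.Agent.F4Cover55
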