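import Cfsg.Agent.F4Cover55.SzLevi
import Cfsg.Agent.KnownSimple58.SzCover
import Cfsg.Agent.Lib.RankOne.SzBridge
import Cfsg.Agent.Twisted.Transfer

/-!
The twisted groups of type F4 over at least eight elements are covered by the square of a class of elements of
odd order (helper55).
-/

set_option autoImplicit false
set_option maxRecDepth 4000
set_option maxHeartbeats 1000000
set_option linter.unusedSectionVars false
set_option linter.style.haveILetI false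

namespace Cfsg.Agent.F4Cover55

open Cfsg.Lie ChevGroup ChevIsogeny Twisted Twisted.TypeF4

/-- A class of a Suzuki group whose square is the whole group. -/
theorem sz_class {H : Type*} [Group H] [Finite H] (hH : Lie.IsoSuzuki H) {m : ℕ}
    (hc : Nat.card H = (2 ^ (2 * m + 1)) ^ 2 * ((2 ^ (2 * m + 1)) ^ 2 + 1) * (2 ^ (2 * m + 1) - 1)) :
    ∃ y : H, Odd (orderOf y) ∧ Nat.Coprime (orderOf y) (2 ^ (2 * m + 1) - 1) ∧
      ∀ g : H, ∃ u v : H, g = (u * y * u⁻¹) * (v * y * v⁻¹) := by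
  classical
  obtain ⟨F, i1, i2, m', hm', hF, ⟨e⟩⟩ := hH
  let f : Cfsg.Sz F m' ≃* H := (RankOne.SzBridge.szEquiv hF hm').trans e.symm
  haveI : Finite (Cfsg.Sz F m') := Finite.of_equiv H f.symm.toEquiv
  have hmm : m' = m := by
    have hmono : StrictMono fun k : ℕ =>
        (2 ^ (2 * k + 1)) ^ 2 * ((2 ^ (2 * k + 1)) ^ 2 + 1) * (2 ^ (2 * k + 1) - 1) := by
      intro a b hab
      have h1 : 2 ^ (2 * a + 1) < 2 ^ (2 * b + 1) := Nat.pow_lt_pow_right (by norm_num) (by omega)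
      have h2 : 2 ≤ 2 ^ (2 * a + 1) := Nat.le_self_pow (by omega) 2
      have h3 := Nat.pow_lt_pow_left h1 (n := 2) (by norm_num)
      exact Nat.mul_lt_mul'' (Nat.mul_lt_mul'' h3 (by omega)) (by omega)
    apply hmono.injective
    beta_reduce
    rw [← hc, ← Suzuki.card_Sz hF hm']
    exact Nat.card_congr f.toEquiv
  subst hmm
  obtain ⟨A, A', hA, -, hcard, -, -⟩ := BC86.Suz.exists_tori hF hm'
  have hq : 2 ^ (m' + 1) ≤ Fintype.card F := by
    rw [hF]; exact Nat.pow_le_pow_right (by norm_num) (by omega)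
  have hsq : (2 ^ (m' + 1)) * 2 ^ (m' + 1) = 2 * Fintype.card F := by
    rw [hF, ← pow_add, show m' + 1 + (m' + 1) = 2 * m' + 1 + 1 by omega, pow_succ']
  have hodd : Odd (Nat.card A) := by
    rw [hcard, hF, pow_succ, pow_succ]
    exact ⟨2 ^ (2 * m') + 2 ^ m', by ring⟩
  have hdvd : Nat.card A ∣ Fintype.card F ^ 2 + 1 := by
    refine Dvd.intro (Fintype.card F - 2 ^ (m' + 1) + 1) ?_
    rw [hcard]
    zify [hq]
    have h := congrArg (fun k : ℕ => (k : ℤ)) hsq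
    push_cast at h
    linear_combination -h
  obtain ⟨u, hu, hu1⟩ : ∃ u ∈ A, u ≠ 1 := by
    refine A.bot_or_exists_ne_one.resolve_left fun h => ?_
    rw [h, Subgroup.card_bot] at hcard
    have := Nat.two_pow_pos (m' + 1)
    omega
  have hdu : orderOf u ∣ Nat.card A := Subgroup.orderOf_dvd_natCard A hu
  have hou : Odd (orderOf u) := Odd.of_dvd_nat hodd hdu
  have h2u : 2 < orderOf u := by
    obtain ⟨k, hk⟩ := hou
    have : orderOf u ≠ 1 := fun h => hu1 (orderOf_eq_one_iff.1 h)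
    omega
  refine ⟨f u, by rwa [MulEquiv.orderOf_eq], ?_, fun g => ?_⟩
  · rw [MulEquiv.orderOf_eq, ← hF]
    exact KnownSimple58.SzTable.coprime_q_sub_one hF (hdu.trans hdvd) hou
  · obtain ⟨g, rfl⟩ := f.surjective g
    by_cases hg : g = 1
    · subst hg
      haveI : Fintype (Cfsg.Sz F m') := Fintype.ofFinite _
      obtain ⟨c, hc⟩ := isConj_iff.1
        (KnownSimple58.SzTable.isConj_inv_of_mem_torus hF hA hodd hu)
      refine ⟨1, f c, ?_⟩
      rw [← map_inv, ← map_mul, ← map_mul, hc, map_inv, map_one]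
      group
    · haveI : Fintype (Cfsg.Sz F m') := Fintype.ofFinite _
      obtain ⟨a, b, hab⟩ := KnownSimple58.SzTable.covers_all hF hm' h2u hg
      exact ⟨f a, f b, by simp [hab]⟩

/-- An element acting without fixed points on a finite group of elements translates into its class. -/
theorem exists_translate {G : Type*} [Group G] {S : Subgroup G} [Finite ↥S] {X : G}
    (hn : ∀ d ∈ S, X * d * X⁻¹ ∈ S) (hn' : ∀ d ∈ S, X⁻¹ * d * X ∈ S)
    (hf : ∀ d ∈ S, Commute d X → d = 1) {v : G} (hv : v ∈ S) :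
    (∃ d ∈ S, d * X * d⁻¹ = v * X) ∧ ∃ d ∈ S, d * X * d⁻¹ = X * v := by
  have key : ∀ d e : ↥S, (d : G) * X * (d : G)⁻¹ = e * X * (e : G)⁻¹ → d = e := by
    intro d e h
    have hc : Commute ((e : G)⁻¹ * d) X := by
      show _ = _
      calc (e : G)⁻¹ * d * X = (e : G)⁻¹ * ((d : G) * X * (d : G)⁻¹) * d := by group
        _ = _ := by rw [h]; group
    exact (Subtype.ext (inv_mul_eq_one.1 (hf _ (mul_mem (inv_mem e.2) d.2) hc))).symm
  let f : ↥S → ↥S := fun d => ⟨(d : G) * (X * (d : G)⁻¹ * X⁻¹), mul_mem d.2 (hn _ (inv_mem d.2))⟩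
  let f' : ↥S → ↥S := fun d => ⟨(X⁻¹ * d * X) * (d : G)⁻¹, mul_mem (hn' _ d.2) (inv_mem d.2)⟩
  have hi : Function.Injective f := fun d e h => key d e (by
    have h' : (d : G) * (X * (d : G)⁻¹ * X⁻¹) = e * (X * (e : G)⁻¹ * X⁻¹) := congrArg Subtype.val h
    calc (d : G) * X * (d : G)⁻¹ = (d : G) * (X * (d : G)⁻¹ * X⁻¹) * X := by group
      _ = _ := by rw [h']; group)
  have hi' : Function.Injective f' := fun d e h => key d e (by
    have h' : (X⁻¹ * d * X) * (d : G)⁻¹ = (X⁻¹ * e * X) * (e : G)⁻¹ := congrArg Subtype.val h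
    calc (d : G) * X * (d : G)⁻¹ = X * ((X⁻¹ * d * X) * (d : G)⁻¹) := by group
      _ = _ := by rw [h']; group)
  obtain ⟨d, hd⟩ := Finite.injective_iff_surjective.1 hi ⟨v, hv⟩
  obtain ⟨d', hd'⟩ := Finite.injective_iff_surjective.1 hi' ⟨v, hv⟩
  refine ⟨⟨d, d.2, ?_⟩, d', d'.2, ?_⟩
  · rw [← show ((f d : ↥S) : G) = v from congrArg Subtype.val hd]
    show _ = (d : G) * (X * (d : G)⁻¹ * X⁻¹) * X
    group
  · rw [← show ((f' d' : ↥S) : G) = v from congrArg Subtype.val hd']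
    show _ = X * ((X⁻¹ * d' * X) * (d' : G)⁻¹)
    group

variable {F : Type*} [Field F] [Fintype F] {m : ℕ} {K : Rels chevF4 F}
  (Z : Frame (T := MT) K PP (2 ^ m) fd) (hK : Fintype.card F = 2 ^ (2 * m + 1)) (hm : 1 ≤ m)

set_option quotPrecheck false in
local notation "G₁" => genG MT K (f4Words F (2 ^ m))

set_option quotPrecheck false in
local notation "DT" => (gens Z hK).data

include Z hK in
theorem th_inj {z w : Fˣ} (h : th m K z = th m K w) : z = w := by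
  have h1 := congrArg (fun g => (MT.shapeR K).mat g (MT.coord 28) (MT.coord 28)) h
  simp only [th, tor_diag, (chi_cvec1 Z _).1] at h1
  exact Units.ext h1

include Z hK hm in
theorem card_LL : Nat.card ↥(LL Z hK) =
    (2 ^ (2 * m + 1)) ^ 2 * ((2 ^ (2 * m + 1)) ^ 2 + 1) * (2 ^ (2 * m + 1) - 1) := by
  classical
  haveI : Fintype (Pt Z hK) := Fintype.ofFinite _
  have hx : Nat.card ↥(XX Z hK) = (2 ^ (2 * m + 1)) ^ 2 :=
    (Nat.card_congr (Subgroup.subgroupOfEquivOfLe (fun a ha => X_LL Z hK ha)).toEquiv).trans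
      (card_X1 Z hK)
  have hp : Nat.card (Pt Z hK) = (2 ^ (2 * m + 1)) ^ 2 + 1 := by
    rw [Nat.card_eq_fintype_card, ← (isKernel Z hK hm).card, hx]
  have hb : Nat.card ↥(BB Z hK) = (2 ^ (2 * m + 1)) ^ 2 * (2 ^ (2 * m + 1) - 1) := by
    have hu : Nat.card Fˣ = 2 ^ (2 * m + 1) - 1 := by
      rw [Nat.card_eq_fintype_card, Fintype.card_units, hK]
    rw [← card_X1 Z hK, ← hu, ← Nat.card_prod]
    refine (Nat.card_congr (Equiv.ofBijective (fun p : ↥((DT).X 1) × Fˣ =>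
      (⟨eX Z hK p.1 p.1.2 * eH Z hK p.2, mul_mem (eX_BB Z hK p.1.2) (eH_BB Z hK p.2)⟩ : ↥(BB Z hK)))
      ⟨?_, ?_⟩)).symm
    · rintro ⟨a, z⟩ ⟨b, w⟩ h
      have h' : (a : ↥(chevF4.group F)) * th m K z = b * th m K w :=
        congrArg (fun g : ↥(BB Z hK) => g.1.1) h
      have h1 : (b : ↥(chevF4.group F))⁻¹ * a = th m K w * (th m K z)⁻¹ := by
        rw [show (b : ↥(chevF4.group F))⁻¹ * a = (b : ↥(chevF4.group F))⁻¹ * ((a : ↥(chevF4.group F)) *
          th m K z) * (th m K z)⁻¹ by group, h']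
        group
      have h2 : (b : ↥(chevF4.group F))⁻¹ * a = 1 := (MT.shapeR K).U_inter_H
        (mul_mem (inv_mem (Subgroup.mem_inf.1 ((DT).X_le_U1 1 b.2)).2)
          (Subgroup.mem_inf.1 ((DT).X_le_U1 1 a.2)).2)
        (h1 ▸ mul_mem (Subgroup.mem_inf.1 (th_H1 Z hK w)).2
          (inv_mem (Subgroup.mem_inf.1 (th_H1 Z hK z)).2))
      rw [h1, mul_inv_eq_one] at h2
      obtain rfl := th_inj Z hK h2
      exact Prod.ext (Subtype.ext (mul_right_cancel h')) rfl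
    · rintro ⟨g, hg⟩
      rcases LL_forms Z hK hm g.2 with ⟨a, ha, z, e⟩ | ⟨a, ha, z, a', ha', e⟩
      · exact ⟨(⟨a, ha⟩, z), Subtype.ext (Subtype.ext e.symm)⟩
      · exfalso
        refine nn_not_B Z hK ?_
        have : nn Z hK = a⁻¹ * g * (a'⁻¹ * (th m K z)⁻¹) := by rw [e]; group
        rw [this]
        exact mul_mem (mul_mem (inv_mem ((DT).U1_le_B1 ((DT).X_le_U1 1 ha))) ((mem_BB Z hK).1 hg))
          (mul_mem (inv_mem ((DT).U1_le_B1 ((DT).X_le_U1 1 ha')))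
            (inv_mem ((DT).H1_le_B1 (th_H1 Z hK z))))
  rw [(BB Z hK).card_eq_card_quotient_mul_card_subgroup]
  show Nat.card (Pt Z hK) * _ = _
  rw [hp, hb]
  ring

theorem w0_zc : ∀ r : Fin MT.tab.n,
    let r' := (MT.S).actw (W0.map fd.O.wd).flatten r
    2 * pr 0 r' + 2 * pr 1 r' + 2 * pr 2 r' = -(2 * pr 0 r + 2 * pr 1 r + 2 * pr 2 r) ∧
      2 * pr 3 r' + 2 * pr 2 r' + pr 1 r' = -(2 * pr 3 r + 2 * pr 2 r + pr 1 r) := by
  decide +kernel

theorem zpar_mul (s t : Fˣ) : zpar m (s * t) = zpar m s * zpar m t := by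
  funext i
  fin_cases i <;> simp [zpar, cvec, mul_pow, mul_comm, mul_left_comm, mul_assoc]

/-- the central torus of the Levi subgroup -/
noncomputable def zch : Fˣ →* ↥(chevF4.group F) :=
  MonoidHom.mk' (fun t => tor MT K (zpar m t)) fun s t => by rw [zpar_mul, Z.tor_mul]

include Z hK in
theorem zch_H1 (s : Fˣ) : zch Z s ∈ (DT).H1 := tor_mem_H1 Z hK _ _

include Z hK in
theorem zch_w0 (s : Fˣ) : ((DT).nW W0)⁻¹ * zch Z s * (DT).nW W0 = zch Z s⁻¹ := by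
  refine coset_conj_tor Z ((DT).nW_coset W0) fun r => ?_
  show chi MT (zpar m s⁻¹) r = chi MT (zpar m s) ((MT.S).actw (W0.map fd.O.wd).flatten r)
  rw [chi_zpar hK, chi_zpar hK, (w0_zc r).1, (w0_zc r).2]
  simp [zpow_neg]

include Z hK hm in
/-- The covering. -/
theorem cover : ∃ x : ↥G₁, Odd (orderOf x) ∧
    ∀ g : ↥G₁, g ≠ 1 → ∃ u v : ↥G₁, g = (u * x * u⁻¹) * (v * x * v⁻¹) := by
  classical
  obtain ⟨y, hyo, hyc, hcov⟩ := sz_class (isoSuzuki Z hK hm) (card_LL Z hK hm)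
  obtain ⟨t, ht⟩ := exists_t Z hK hm
  set n := orderOf y with hn
  have hpow : ∀ s : Fˣ, s ≠ 1 → s ^ n ≠ 1 := by
    intro s hs h
    refine hs (orderOf_eq_one_iff.1 (Nat.eq_one_of_dvd_coprimes hyc (orderOf_dvd_of_pow_eq_one h) ?_))
    rw [← hK, ← Fintype.card_units]
    exact orderOf_dvd_card
  have hzc : ∀ (Y : ↥(LL Z hK)) (s : Fˣ), Commute (zch Z s) (Y : ↥(chevF4.group F)) :=
    fun Y s => Y.2.2.1 s
  have hLG : ∀ Y : ↥(LL Z hK), (Y : ↥(chevF4.group F)) ∈ G₁ := fun Y =>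
    ((lev_of_LL Z hK hm Y.2).nu Z hK).1.1
  -- elements of the shape of the chosen element translate both radicals into their class
  set S : Subgroup ↥(chevF4.group F) := (DT).Uo 1 ⊓ G₁ with hS
  set n0 := (DT).nW W0 with hn0
  have htrans : ∀ (Y : ↥(LL Z hK)), Y ^ n = 1 → ∀ s : Fˣ, s ≠ 1 →
      (∀ v ∈ S, ∃ d ∈ S, d * ((Y : ↥(chevF4.group F)) * zch Z s) * d⁻¹ = (Y * zch Z s) * v) ∧
      (∀ v ∈ S, ∃ d ∈ S, (n0 * d * n0⁻¹) * ((Y : ↥(chevF4.group F)) * zch Z s) * (n0 * d * n0⁻¹)⁻¹ =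
        (n0 * v * n0⁻¹) * (Y * zch Z s)) := by
    intro Y hY s hs
    set X := (Y : ↥(chevF4.group F)) * zch Z s with hX
    have hXn : X ^ n = zch Z (s ^ n) := by
      rw [hX, (hzc Y s).symm.mul_pow, ← Subgroup.coe_pow, hY, Subgroup.coe_one, one_mul, map_pow]
    have hnu1 : NU Z hK X := ((lev_of_LL Z hK hm Y.2).nu Z hK).1.mul Z hK (NU.H Z hK (zch_H1 Z hK s))
    have hXi : X⁻¹ = ((Y⁻¹ : ↥(LL Z hK)) : ↥(chevF4.group F)) * zch Z s⁻¹ := by
      rw [hX, mul_inv_rev, map_inv, Subgroup.coe_inv, ((hzc Y s).inv_inv).eq]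
    have hnu1' : NU Z hK X⁻¹ := by
      rw [hXi]
      exact ((lev_of_LL Z hK hm (Y⁻¹).2).nu Z hK).1.mul Z hK (NU.H Z hK (zch_H1 Z hK _))
    have hnu2 : ∀ Y' : ↥(LL Z hK), ∀ s' : Fˣ,
        NU Z hK (n0⁻¹ * ((Y' : ↥(chevF4.group F)) * zch Z s') * n0) := by
      intro Y' s'
      rw [show n0⁻¹ * ((Y' : ↥(chevF4.group F)) * zch Z s') * n0 =
        (n0⁻¹ * Y' * n0) * (n0⁻¹ * zch Z s' * n0) by group, hn0, zch_w0 Z hK]
      exact ((lev_of_LL Z hK hm Y'.2).nu Z hK).2.mul Z hK (NU.H Z hK (zch_H1 Z hK _))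
    have hconj : ∀ {A : ↥(chevF4.group F)}, NU Z hK A → ∀ d ∈ S, A * d * A⁻¹ ∈ S := fun hA d hd =>
      Subgroup.mem_inf.2 ⟨hA.2 d (Subgroup.mem_inf.1 hd).1 (Subgroup.mem_inf.1 hd).2,
        mul_mem (mul_mem hA.1 (Subgroup.mem_inf.1 hd).2) (inv_mem hA.1)⟩
    have hfix : ∀ {s' : Fˣ}, s' ≠ 1 → ∀ d ∈ S, Commute d (zch Z s') → d = 1 := fun hs' d hd h =>
      cent_Uo Z hK 1 (W := [0, 1, 0, 1, 0, 1, 0]) ((gens Z hK).longest long_ok)
        (fun r hr hr1 => chi_zpar_ne hK hs' r hr hr1) (Subgroup.mem_inf.1 hd).2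
        (Subgroup.mem_inf.1 hd).1 h.symm
    refine ⟨fun v hv => (exists_translate (hconj hnu1)
      (fun d hd => by simpa using hconj hnu1' d hd)
      (fun d hd h => hfix (hpow s hs) d hd (hXn ▸ h.pow_right n)) hv).2, fun v hv => ?_⟩
    obtain ⟨d, hd, e⟩ := (exists_translate (X := n0⁻¹ * X * n0) (hconj (hnu2 Y s))
      (fun d hd => by
        have e1 : (n0⁻¹ * X * n0)⁻¹ = n0⁻¹ * X⁻¹ * n0 := by group
        have := hconj (hnu2 Y⁻¹ s⁻¹) d hd
        rw [← hXi, ← e1, inv_inv] at this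
        exact this)
      (fun d hd h => by
        refine hfix (s' := (s ^ n)⁻¹) (inv_ne_one.2 (hpow s hs)) d hd ?_
        rw [← zch_w0 Z hK, ← hn0, ← hXn, ← show (n0⁻¹ * X * n0) ^ n = n0⁻¹ * X ^ n * n0 by
          simpa using (conj_pow (a := n0⁻¹) (b := X) (i := n))]
        exact h.pow_right n) hv).1
    refine ⟨d, hd, ?_⟩
    calc (n0 * d * n0⁻¹) * X * (n0 * d * n0⁻¹)⁻¹ = n0 * (d * (n0⁻¹ * X * n0) * d⁻¹) * n0⁻¹ := by group
      _ = _ := by rw [e]; group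
  have hx : (y : ↥(chevF4.group F)) * zch Z t ∈ G₁ :=
    mul_mem (hLG y) (Subgroup.mem_inf.1 (zch_H1 Z hK t)).1
  refine ⟨⟨_, hx⟩, ?_, fun g hg => ?_⟩
  · have h1 : ((y : ↥(chevF4.group F)) * zch Z t) ^ (n * (2 ^ (2 * m + 1) - 1)) = 1 := by
      rw [(hzc y t).symm.mul_pow, ← Subgroup.coe_pow, pow_mul, hn, pow_orderOf_eq_one, one_pow,
        Subgroup.coe_one, one_mul, ← map_pow, mul_comm, pow_mul, ← hK, ← Fintype.card_units,
        pow_card_eq_one, one_pow, map_one]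
    rw [Subgroup.orderOf_mk]
    refine Odd.of_dvd_nat (hyo.mul ?_) (orderOf_dvd_of_pow_eq_one h1)
    refine Nat.Even.sub_odd Nat.one_le_two_pow ?_ odd_one
    exact (Nat.even_pow.2 ⟨even_two, by omega⟩)
  · obtain ⟨Y, hY, c, hc, hc1, l, hl, hdl, c', hc', hc1', e⟩ :=
      step_levi Z hK hm (chi MT (zpar m (t * t)) hi) g.2 (fun h => hg (Subtype.ext h))
    have hl' : l * zch Z (t * t)⁻¹ ∈ LL Z hK := by
      refine ⟨mul_mem (hl.mem_par Z hK) ((DT).B1_le_par1 [1] ((DT).H1_le_B1 (zch_H1 Z hK _))),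
        fun s => (hl.comm Z hK s).mul_right (zc_comm_H Z hK s (zch_H1 Z hK _)), ?_⟩
      have hh : dd K (zch Z (t * t)⁻¹) * dd K (zch Z (t * t)) = 1 := by
        rw [map_inv]; exact dd_H_inv Z hK (zch_H1 Z hK _)
      rw [dd_right (fixLine_H (Subgroup.mem_inf.1 (zch_H1 Z hK _)).2), hdl,
        show (chi MT (zpar m (t * t)) hi : F) = dd K (zch Z (t * t)) from (dd_tor _).symm, mul_comm]
      exact hh
    obtain ⟨a, b, hab⟩ := hcov ⟨_, hl'⟩
    set Ya := a * y * a⁻¹ with hYa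
    set Yb := b * y * b⁻¹ with hYb
    have hab' : l * zch Z (t * t)⁻¹ = (Ya : ↥(chevF4.group F)) * Yb := congrArg Subtype.val hab
    have el : l = ((Ya : ↥(chevF4.group F)) * zch Z t) * (Yb * zch Z t) := by
      have h1 : l = l * zch Z (t * t)⁻¹ * zch Z (t * t) := by
        rw [mul_assoc, ← map_mul, inv_mul_cancel, map_one, mul_one]
      rw [h1, hab', map_mul]
      calc (Ya : ↥(chevF4.group F)) * Yb * (zch Z t * zch Z t)
          = (Ya : ↥(chevF4.group F)) * ((Yb : ↥(chevF4.group F)) * zch Z t) * zch Z t := by group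
        _ = (Ya : ↥(chevF4.group F)) * (zch Z t * (Yb : ↥(chevF4.group F))) * zch Z t := by
          rw [(hzc Yb t).eq]
        _ = _ := by group
    have hYn : ∀ w : ↥(LL Z hK), (w * y * w⁻¹) ^ n = 1 := fun w => by
      rw [conj_pow, hn, pow_orderOf_eq_one, mul_one, mul_inv_cancel]
    obtain ⟨d1, hd1, e1⟩ := (htrans Ya (hYn a) t ht).2 c (Subgroup.mem_inf.2 ⟨hc, hc1⟩)
    obtain ⟨d2, hd2, e2⟩ := (htrans Yb (hYn b) t ht).1 c' (Subgroup.mem_inf.2 ⟨hc', hc1'⟩)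
    have hca : ∀ w : ↥(LL Z hK), ((w * y * w⁻¹ : ↥(LL Z hK)) : ↥(chevF4.group F)) * zch Z t =
        (w : ↥(chevF4.group F)) * (y * zch Z t) * (w : ↥(chevF4.group F))⁻¹ := by
      intro w
      show (w : ↥(chevF4.group F)) * y * (w : ↥(chevF4.group F))⁻¹ * zch Z t = _
      calc _ = (w : ↥(chevF4.group F)) * y * ((w : ↥(chevF4.group F))⁻¹ * zch Z t) := by group
        _ = (w : ↥(chevF4.group F)) * y * (zch Z t * (w : ↥(chevF4.group F))⁻¹) := by
          rw [((hzc w t).inv_right).eq]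
        _ = _ := by group
    refine ⟨⟨Y⁻¹ * (n0 * d1 * n0⁻¹) * a, ?_⟩, ⟨Y⁻¹ * d2 * b, ?_⟩, Subtype.ext ?_⟩
    · exact mul_mem (mul_mem (inv_mem hY) (mul_mem (mul_mem ((DT).nW_mem W0) (Subgroup.mem_inf.1 hd1).2)
        (inv_mem ((DT).nW_mem W0)))) (hLG a)
    · exact mul_mem (mul_mem (inv_mem hY) (Subgroup.mem_inf.1 hd2).2) (hLG b)
    · show (g : ↥(chevF4.group F)) = _ * ((y : ↥(chevF4.group F)) * zch Z t) * _ *
        (_ * ((y : ↥(chevF4.group F)) * zch Z t) * _)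
      have h3 : Y * (g : ↥(chevF4.group F)) * Y⁻¹ =
          (n0 * d1 * n0⁻¹) * ((Ya : ↥(chevF4.group F)) * zch Z t) * (n0 * d1 * n0⁻¹)⁻¹ *
            (d2 * ((Yb : ↥(chevF4.group F)) * zch Z t) * d2⁻¹) := by
        rw [e1, e2, e, el, hn0]; group
      rw [hYa, hYb, hca, hca] at h3
      calc (g : ↥(chevF4.group F)) = Y⁻¹ * (Y * (g : ↥(chevF4.group F)) * Y⁻¹) * Y := by group
        _ = _ := by rw [h3]; simp only [Subgroup.coe_inv, mul_inv_rev, inv_inv]; group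

/-- The twisted groups of type F4 over at least eight elements. -/
theorem large {M : Type*} [Group M] (hM : Cfsg.Lie.Iso2F4 M) :
    ∃ x : M, Odd (orderOf x) ∧ ∀ g : M, g ≠ 1 → ∃ u v : M, g = (u * x * u⁻¹) * (v * x * v⁻¹) := by
  obtain ⟨F, i1, i2, m, hm, hK, ⟨e⟩⟩ := hM
  have Z := frame₀ hK
  let f := (genEquiv (T := MT) (K := relsOfCommGood ChevCore.commGoodF4 F) (f4Words F (2 ^ m))).trans e.symm
  obtain ⟨x, hx, hcov⟩ := cover Z hK hm
  refine ⟨f x, by rwa [MulEquiv.orderOf_eq], fun g hg => ?_⟩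
  obtain ⟨u, v, huv⟩ := hcov (f.symm g) (fun h => hg (by simpa using congrArg f h))
  exact ⟨f u, f v, by simpa using congrArg f huv⟩

end Cfsg.Agent.F4Cover55
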