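import Cfsg.Agent.F4Cover55.Step

/-!
The Levi subgroup of type Suzuki inside the parabolic subgroup fixing the highest root (helper55).
-/

set_option autoImplicit false
set_option maxRecDepth 4000
set_option maxHeartbeats 1000000
set_option linter.unusedSectionVars false

namespace Cfsg.Agent.F4Cover55

open Cfsg.Lie ChevGroup ChevIsogeny Twisted Twisted.TypeF4

variable {F : Type*} [Field F] [Fintype F] {m : ℕ} {K : Rels chevF4 F}
  (Z : Frame (T := MT) K PP (2 ^ m) fd) (hK : Fintype.card F = 2 ^ (2 * m + 1))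

set_option quotPrecheck false in
local notation "G₁" => genG MT K (f4Words F (2 ^ m))

set_option quotPrecheck false in
local notation "DT" => (gens Z hK).data

/-- cosets of the Borel subgroup in the parabolic subgroup -/
def stepQ : TStepData MT.tab.n 2 where
  m := 2
  KS := [1]
  JS := []
  rep := [[], [1]]
  tgt := [[], [1, 0]]
  v := [[], [[], []]]
  span := ([24, 25, 26, 27, 28, 29, 30, 31, 32, 33, 34, 35, 36, 37, 38, 39, 40, 41, 42, 43, 44, 45, 46, 47] : List (Fin 48))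

theorem stepQ_ok : orb.stepB MT.S stepQ = true := by decide +kernel

theorem zc_norm : ∀ r : Fin MT.tab.n, (MT.S).pos r → r ∉ fd.O.cls 1 →
    NormOK (2 * pr 0 r + 2 * pr 1 r + 2 * pr 2 r) (2 * pr 3 r + 2 * pr 2 r + pr 1 r) := by
  decide +kernel

theorem zc_zero : ∀ r : Fin MT.tab.n, r ∈ fd.O.cls 1 ∨ (MT.S).neg r ∈ fd.O.cls 1 →
    2 * pr 0 r + 2 * pr 1 r + 2 * pr 2 r = 0 ∧ 2 * pr 3 r + 2 * pr 2 r + pr 1 r = 0 := by
  decide +kernel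

/-- the parameters of the central element of the Levi subgroup -/
def zpar (m : ℕ) (t : Fˣ) : Fin MT.tab.l → Fˣ := cvec m (t ^ 2) ((t ^ 2 ^ m) ^ 2 * t ^ 2)

include hK in
theorem chi_zpar (t : Fˣ) (r : Fin MT.tab.n) : chi MT (zpar m t) r =
    (t ^ 2 ^ m) ^ (2 * pr 0 r + 2 * pr 1 r + 2 * pr 2 r) *
      t ^ (2 * pr 3 r + 2 * pr 2 r + pr 1 r) := by
  have hper : t ^ (2 * 2 ^ m * 2 ^ m) = t := Units.ext (by
    rw [Units.val_pow_eq_pow_val]; exact (pow_facts hK).2.2.2.2.2.1 _)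
  have he : ((t ^ 2 ^ m) ^ 2 * t ^ 2) ^ 2 ^ m = t * (t ^ 2 ^ m) ^ 2 := by
    rw [mul_pow, ← pow_mul, ← pow_mul, ← pow_mul, ← pow_mul]
    rw [show 2 ^ m * (2 * 2 ^ m) = 2 * 2 ^ m * 2 ^ m by ring, hper, mul_comm 2 (2 ^ m)]
  rw [zpar, chi_cvec, he, ← pow_mul t 2, mul_comm 2 (2 ^ m), pow_mul]
  simp only [← zpow_natCast, mul_zpow, ← zpow_mul, ← zpow_add, mul_assoc]
  congr 1
  push_cast
  ring

include hK in
theorem chi_zpar_ne {t : Fˣ} (ht : t ≠ 1) (r : Fin MT.tab.n) (hr : (MT.S).pos r)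
    (hr1 : r ∉ fd.O.cls 1) : chi MT (zpar m t) r ≠ 1 := by
  rw [chi_zpar hK]
  exact fun h => ht (eq_one_of_norm hK (zc_norm r hr hr1) h)

include hK in
theorem chi_zpar_eq (t : Fˣ) (r : Fin MT.tab.n) (hr : r ∈ fd.O.cls 1 ∨ (MT.S).neg r ∈ fd.O.cls 1) :
    chi MT (zpar m t) r = 1 := by
  rw [chi_zpar hK, (zc_zero r hr).1, (zc_zero r hr).2]; simp

include Z hK in
theorem zc_comm_Sg (t : Fˣ) {T : Fin MT.tab.n → Prop}
    (hT : ∀ r, T r → r ∈ fd.O.cls 1 ∨ (MT.S).neg r ∈ fd.O.cls 1) {a : ↥(chevF4.group F)}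
    (ha : a ∈ Sg (MT.rel K) T) : Commute (tor MT K (zpar m t)) a := by
  induction ha using Subgroup.closure_induction with
  | mem y hy => obtain ⟨r, u, hr, rfl⟩ := hy; exact commute_tor Z (chi_zpar_eq hK t r (hT r hr)) u
  | one => exact Commute.one_right _
  | mul a b _ _ ha hb => exact ha.mul_right hb
  | inv a _ ha => exact ha.inv_right

include Z hK in
theorem zc_comm_X (t : Fˣ) {a : ↥(chevF4.group F)} (ha : a ∈ (DT).X 1) :
    Commute (tor MT K (zpar m t)) a :=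
  zc_comm_Sg Z hK t (T := (· ∈ fd.O.cls 1)) (fun _ h => Or.inl h) (Subgroup.mem_inf.1 ha).2

include Z hK in
theorem zc_comm_n (t : Fˣ) : Commute (tor MT K (zpar m t)) ((DT).nJ 1) := by
  set C := zpar m t with hC
  have hc : ∀ r, chi MT C r = chi MT C ((MT.S).actw (fd.O.wd 1) r) := by
    intro r
    have h : ∀ r : Fin MT.tab.n,
        (2 * pr 0 r + 2 * pr 1 r + 2 * pr 2 r =
          2 * pr 0 ((MT.S).actw (fd.O.wd 1) r) + 2 * pr 1 ((MT.S).actw (fd.O.wd 1) r) +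
            2 * pr 2 ((MT.S).actw (fd.O.wd 1) r)) ∧
        (2 * pr 3 r + 2 * pr 2 r + pr 1 r =
          2 * pr 3 ((MT.S).actw (fd.O.wd 1) r) + 2 * pr 2 ((MT.S).actw (fd.O.wd 1) r) +
            pr 1 ((MT.S).actw (fd.O.wd 1) r)) := by decide +kernel
    rw [hC, chi_zpar hK, chi_zpar hK, (h r).1, (h r).2]
  have h2 := coset_conj_tor Z ((DT).nJ_coset 1) hc
  show tor MT K C * (DT).nJ 1 = (DT).nJ 1 * tor MT K C
  conv_rhs => rw [← h2]
  group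

include Z hK in
theorem zc_comm_H (t : Fˣ) {h : ↥(chevF4.group F)} (hh : h ∈ (DT).H1) :
    Commute (tor MT K (zpar m t)) h := by
  obtain ⟨c, rfl⟩ := Z.exists_tor torOk (Subgroup.mem_inf.1 hh).2
  show _ * _ = _ * _
  rw [← Z.tor_mul, ← Z.tor_mul, mul_comm]

/-- the two shapes of the elements of the Levi subgroup -/
def Lev (l : ↥(chevF4.group F)) : Prop :=
  (∃ a ∈ (DT).X 1, ∃ h ∈ (DT).H1, l = a * h) ∨
    (∃ a ∈ (DT).X 1, ∃ h ∈ (DT).H1, ∃ a' ∈ (DT).X 1, l = a * (DT).nJ 1 * h * a')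

include Z hK in
theorem H_conj_X {h a : ↥(chevF4.group F)} (hh : h ∈ (DT).H1) (ha : a ∈ (DT).X 1) :
    h * a * h⁻¹ ∈ (DT).X 1 :=
  Subgroup.mem_inf.2 ⟨mul_mem (mul_mem (Subgroup.mem_inf.1 hh).1 (Subgroup.mem_inf.1 ha).1)
    (inv_mem (Subgroup.mem_inf.1 hh).1), H_conj_Sg _ (Subgroup.mem_inf.1 hh).2 (Subgroup.mem_inf.1 ha).2⟩

include Z hK in
theorem Lev.mem_par {l : ↥(chevF4.group F)} (hl : Lev Z hK l) : l ∈ (DT).par1 [1] := by
  have hX : ∀ a ∈ (DT).X 1, a ∈ (DT).par1 [1] := fun a ha =>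
    (DT).B1_le_par1 [1] ((DT).U1_le_B1 ((DT).X_le_U1 1 ha))
  have hH : ∀ h ∈ (DT).H1, h ∈ (DT).par1 [1] := fun h hh => (DT).B1_le_par1 [1] ((DT).H1_le_B1 hh)
  rcases hl with ⟨a, ha, h, hh, rfl⟩ | ⟨a, ha, h, hh, a', ha', rfl⟩
  · exact mul_mem (hX a ha) (hH h hh)
  · exact mul_mem (mul_mem (mul_mem (hX a ha) ((DT).nJ_mem_par1 (List.mem_singleton_self 1))) (hH h hh))
      (hX a' ha')

include Z hK in
theorem Lev.comm {l : ↥(chevF4.group F)} (hl : Lev Z hK l) (t : Fˣ) :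
    Commute (tor MT K (zpar m t)) l := by
  rcases hl with ⟨a, ha, h, hh, rfl⟩ | ⟨a, ha, h, hh, a', ha', rfl⟩
  · exact (zc_comm_X Z hK t ha).mul_right (zc_comm_H Z hK t hh)
  · exact (((zc_comm_X Z hK t ha).mul_right (zc_comm_n Z hK t)).mul_right
      (zc_comm_H Z hK t hh)).mul_right (zc_comm_X Z hK t ha')

theorem repQ : ∀ c : Fin stepQ.m, stepQ.repF c = [] ∨ stepQ.repF c = [1] := by decide +kernel

include Z hK in
/-- the Levi decomposition of the parabolic subgroup -/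
theorem par_decomp {p : ↥(chevF4.group F)} (hp : p ∈ (DT).par1 [1]) :
    ∃ l, Lev Z hK l ∧ ∃ c ∈ (DT).Uo 1, c ∈ G₁ ∧ p = l * c := by
  have X := gens Z hK
  have h0 := X.longest long_ok
  have hC := X.valid stepQ_ok
  obtain ⟨c, hc⟩ := Set.mem_iUnion.1 ((DT).step_cover (MT.shapeR K) h0 X.split hC hp)
  obtain ⟨b, hb, e⟩ := mem_cell.1 hc
  rw [QuotientGroup.eq] at e
  set b' := (b * (DT).nW (stepQ.repF c))⁻¹ * p with hb'
  have hb1 : b' ∈ (DT).B1 := by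
    have := e
    rwa [show stepQ.toStep.JS = [] from rfl, (DT).par1_nil] at this
  have ep : p = b * (DT).nW (stepQ.repF c) * b' := by rw [hb']; group
  rcases repQ c with hr | hr
  · rw [hr, (DT).nW_nil, mul_one] at ep
    obtain ⟨a, ha, d, hd, hd1, h, hh, e2⟩ := (DT).B1_decomp (MT.shapeR K) h0 1 (mul_mem hb hb1)
    refine ⟨a * h, Or.inl ⟨a, ha, h, hh, rfl⟩, h⁻¹ * d * h,
      by simpa [Data.Uo] using H_conj_Sg (MT.rel K) (inv_mem (Subgroup.mem_inf.1 hh).2) hd,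
      mul_mem (mul_mem (inv_mem (Subgroup.mem_inf.1 hh).1) hd1) (Subgroup.mem_inf.1 hh).1, ?_⟩
    rw [ep, e2]; group
  · rw [hr, (DT).nW_cons, (DT).nW_nil, mul_one] at ep
    obtain ⟨a, ha, d, hd, hd1, h, hh, e2⟩ := (DT).B1_decomp (MT.shapeR K) h0 1 hb
    obtain ⟨h', hh', d', hd', hd1', a', ha', e3⟩ := (DT).B1_decomp' (MT.shapeR K) h0 1 hb1
    set n := (DT).nJ 1 with hn
    set H := n⁻¹ * h * n * h' with hHdef
    have hH : H ∈ (DT).H1 := mul_mem ((DT).nJ_inv_conj_H1 1 hh) hh'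
    set D := H⁻¹ * (n⁻¹ * d * n) * H * d' with hDdef
    have hD : D ∈ (DT).Uo 1 := by
      refine mul_mem ?_ hd'
      simpa [Data.Uo, hn] using H_conj_Sg (MT.rel K) (inv_mem (Subgroup.mem_inf.1 hH).2) ((DT).nJ_inv_conj_Uo 1 hd)
    have hD1 : D ∈ G₁ :=
      mul_mem (mul_mem (mul_mem (inv_mem (Subgroup.mem_inf.1 hH).1)
        (mul_mem (mul_mem (inv_mem ((DT).nJ_mem 1)) hd1) ((DT).nJ_mem 1))) (Subgroup.mem_inf.1 hH).1) hd1'
    refine ⟨a * n * H * a', Or.inr ⟨a, ha, H, hH, a', ha', rfl⟩, a'⁻¹ * D * a',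
      by simpa using (DT).Uk_conj_Uo 1 (inv_mem (Subgroup.mem_inf.1 ha').2) hD,
      mul_mem (mul_mem (inv_mem (Subgroup.mem_inf.1 ha').1) hD1) (Subgroup.mem_inf.1 ha').1, ?_⟩
    rw [ep, e2, e3, hDdef, hHdef]; group

theorem long1 : orb.longB TypeF4.model.S W0 = true := long_ok

include Z hK in
/-- an element of the parabolic subgroup commuting with the central element is in the Levi subgroup -/
theorem lev_of_comm {t : Fˣ} (ht : t ≠ 1) {p : ↥(chevF4.group F)} (hp : p ∈ (DT).par1 [1])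
    (hc : Commute (tor MT K (zpar m t)) p) : Lev Z hK p := by
  obtain ⟨l, hl, c, hcU, hc1, e⟩ := par_decomp Z hK hp
  have hcc : Commute (tor MT K (zpar m t)) c := by
    have : c = l⁻¹ * p := by rw [e]; group
    rw [this]
    exact (hl.comm Z hK t).inv_right.mul_right hc
  have := cent_Uo Z hK 1 (W := [0, 1, 0, 1, 0, 1, 0]) ((gens Z hK).longest long_ok)
    (fun r hr hr1 => chi_zpar_ne hK ht r hr hr1) hc1 hcU hcc
  rw [e, this, mul_one]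
  exact hl

include Z hK in
theorem exists_t (hm : 1 ≤ m) : ∃ t : Fˣ, t ≠ 1 := exists_ne_one Z hK hm

/-- normalises the radical -/
def NU (y : ↥(chevF4.group F)) : Prop :=
  y ∈ G₁ ∧ ∀ c ∈ (DT).Uo 1, c ∈ G₁ → y * c * y⁻¹ ∈ (DT).Uo 1

include Z hK in
theorem NU.mul {y z : ↥(chevF4.group F)} (hy : NU Z hK y) (hz : NU Z hK z) : NU Z hK (y * z) := by
  refine ⟨mul_mem hy.1 hz.1, fun c hc hc1 => ?_⟩
  have := hy.2 _ (hz.2 c hc hc1) (mul_mem (mul_mem hz.1 hc1) (inv_mem hz.1))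
  simpa [mul_assoc] using this

theorem w0_cls : ∀ r : Fin MT.tab.n, r ∈ fd.O.cls 1 →
    (MT.S).neg ((MT.S).actw (W0.map fd.O.wd).flatten r) ∈ fd.O.cls 1 ∧
      (MT.S).neg ((MT.S).actw (W0.map fd.O.wd).flatten.reverse r) ∈ fd.O.cls 1 := by
  decide +kernel

theorem w0_opp : ∀ r : Fin MT.tab.n, (MT.S).neg r ∈ fd.O.cls 1 →
    (MT.S).actw (fd.O.wd 1).reverse r ∈ fd.O.cls 1 ∧
      (MT.S).actw (W0.map fd.O.wd).flatten.reverse r ∈ fd.O.cls 1 := by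
  decide +kernel

theorem w0_mid : ∀ r : Fin MT.tab.n, (MT.S).pos r → r ∉ fd.O.cls 1 →
    (MT.S).pos ((MT.S).actw ((W0.map fd.O.wd).flatten.reverse ++ fd.O.wd 1 ++ (W0.map fd.O.wd).flatten) r) ∧
      (MT.S).actw ((W0.map fd.O.wd).flatten.reverse ++ fd.O.wd 1 ++ (W0.map fd.O.wd).flatten) r ∉
        fd.O.cls 1 := by
  decide +kernel

include Z hK in
theorem NU.X {a : ↥(chevF4.group F)} (ha : a ∈ (DT).X 1) : NU Z hK a :=
  ⟨(Subgroup.mem_inf.1 ha).1, fun _ hc _ => (DT).Uk_conj_Uo 1 (Subgroup.mem_inf.1 ha).2 hc⟩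

include Z hK in
theorem NU.H {h : ↥(chevF4.group F)} (hh : h ∈ (DT).H1) : NU Z hK h :=
  ⟨(Subgroup.mem_inf.1 hh).1, fun _ hc _ => H_conj_Sg _ (Subgroup.mem_inf.1 hh).2 hc⟩

include Z hK in
theorem NU.n : NU Z hK ((DT).nJ 1) ∧ NU Z hK ((DT).nJ 1)⁻¹ :=
  ⟨⟨(DT).nJ_mem 1, fun _ hc _ => (DT).nJ_conj_Uo 1 hc⟩,
    ⟨inv_mem ((DT).nJ_mem 1), fun _ hc _ => by simpa using (DT).nJ_inv_conj_Uo 1 hc⟩⟩

include Z hK in
/-- an element of the opposite root group is conjugate to one of the root group by the representative -/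
theorem opp_eq {v : ↥(chevF4.group F)} (hv : v ∈ Sg (MT.rel K) fun r => (MT.S).neg r ∈ fd.O.cls 1)
    (hv1 : v ∈ G₁) :
    (∃ a ∈ (DT).X 1, v = (DT).nJ 1 * a * ((DT).nJ 1)⁻¹) ∧
      ∃ a ∈ (DT).X 1, v = (DT).nW W0 * a * ((DT).nW W0)⁻¹ := by
  refine ⟨⟨((DT).nJ 1)⁻¹ * v * (DT).nJ 1, Subgroup.mem_inf.2 ⟨?_, ?_⟩, by group⟩,
    ⟨((DT).nW W0)⁻¹ * v * (DT).nW W0, Subgroup.mem_inf.2 ⟨?_, ?_⟩, by group⟩⟩
  · exact mul_mem (mul_mem (inv_mem ((DT).nJ_mem 1)) hv1) ((DT).nJ_mem 1)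
  · exact ((DT).nJ_coset 1).inv_conj_Sg _ (fun r hr => (w0_opp r hr).1) hv
  · exact mul_mem (mul_mem (inv_mem ((DT).nW_mem W0)) hv1) ((DT).nW_mem W0)
  · exact ((DT).nW_coset W0).inv_conj_Sg _ (fun r hr => (w0_opp r hr).2) hv

include Z hK in
theorem nW_X (W : List (Fin 2))
    (h1 : ∀ r : Fin MT.tab.n, r ∈ fd.O.cls 1 → (MT.S).neg ((MT.S).actw (W.map fd.O.wd).flatten r) ∈ fd.O.cls 1)
    (h2 : ∀ r : Fin MT.tab.n, r ∈ fd.O.cls 1 →
      (MT.S).neg ((MT.S).actw (W.map fd.O.wd).flatten.reverse r) ∈ fd.O.cls 1)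
    {a : ↥(chevF4.group F)} (ha : a ∈ (DT).X 1) :
    ((DT).nW W * a * ((DT).nW W)⁻¹ ∈ Sg (MT.rel K) fun r => (MT.S).neg r ∈ fd.O.cls 1) ∧
      (((DT).nW W)⁻¹ * a * (DT).nW W ∈ Sg (MT.rel K) fun r => (MT.S).neg r ∈ fd.O.cls 1) :=
  ⟨((DT).nW_coset W).conj_Sg _ h1 (Subgroup.mem_inf.1 ha).2,
    ((DT).nW_coset W).inv_conj_Sg _ h2 (Subgroup.mem_inf.1 ha).2⟩

include Z hK in
theorem w0_X {a : ↥(chevF4.group F)} (ha : a ∈ (DT).X 1) :
    ((DT).nW W0 * a * ((DT).nW W0)⁻¹ ∈ Sg (MT.rel K) fun r => (MT.S).neg r ∈ fd.O.cls 1) ∧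
      (((DT).nW W0)⁻¹ * a * (DT).nW W0 ∈ Sg (MT.rel K) fun r => (MT.S).neg r ∈ fd.O.cls 1) :=
  nW_X Z hK W0 (fun r hr => (w0_cls r hr).1) (fun r hr => (w0_cls r hr).2) ha

include Z hK in
theorem nW_conj_H1 (W : List (Fin 2)) {h : ↥(chevF4.group F)} (hh : h ∈ (DT).H1) :
    (DT).nW W * h * ((DT).nW W)⁻¹ ∈ (DT).H1 ∧ ((DT).nW W)⁻¹ * h * (DT).nW W ∈ (DT).H1 := by
  induction W generalizing h with
  | nil => simpa using hh
  | cons k W ih =>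
    have h1 := (DT).nJ_conj_H1 k (ih hh).1
    have h2 := (ih ((DT).nJ_inv_conj_H1 k hh)).2
    rw [(DT).nW_cons]
    exact ⟨by simpa [mul_assoc] using h1, by simpa [mul_assoc] using h2⟩

include Z hK in
/-- elements of the Levi subgroup normalise the radical and its opposite -/
theorem Lev.nu {l : ↥(chevF4.group F)} (hl : Lev Z hK l) :
    NU Z hK l ∧ NU Z hK (((DT).nW W0)⁻¹ * l * (DT).nW W0) := by
  set n0 := (DT).nW W0 with hn0
  have hX : ∀ a ∈ (DT).X 1, NU Z hK (n0⁻¹ * a * n0) := by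
    intro a ha
    obtain ⟨⟨a', ha', e⟩, -⟩ := opp_eq Z hK (w0_X Z hK ha).2
      (mul_mem (mul_mem (inv_mem ((DT).nW_mem W0)) (Subgroup.mem_inf.1 ha).1) ((DT).nW_mem W0))
    rw [← hn0] at e
    rw [e]
    exact ((NU.n Z hK).1.mul Z hK (NU.X Z hK ha')).mul Z hK (NU.n Z hK).2
  have hn : NU Z hK (n0⁻¹ * (DT).nJ 1 * n0) := by
    refine ⟨mul_mem (mul_mem (inv_mem ((DT).nW_mem W0)) ((DT).nJ_mem 1)) ((DT).nW_mem W0),
      fun c hc _ => ?_⟩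
    have hco := (((DT).nW_coset W0).inv _).mul _ ((DT).nJ_coset 1) |>.mul _ ((DT).nW_coset W0)
    exact hco.conj_Sg _ (T := fun r => (MT.S).pos r ∧ r ∉ fd.O.cls 1)
      (T' := fun r => (MT.S).pos r ∧ r ∉ fd.O.cls 1) (fun r hr => w0_mid r hr.1 hr.2) hc
  have hH : ∀ h ∈ (DT).H1, NU Z hK (n0⁻¹ * h * n0) := fun h hh =>
    NU.H Z hK (nW_conj_H1 Z hK W0 hh).2
  rcases hl with ⟨a, ha, h, hh, rfl⟩ | ⟨a, ha, h, hh, a', ha', rfl⟩
  · refine ⟨(NU.X Z hK ha).mul Z hK (NU.H Z hK hh), ?_⟩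
    rw [show n0⁻¹ * (a * h) * n0 = (n0⁻¹ * a * n0) * (n0⁻¹ * h * n0) by group]
    exact (hX a ha).mul Z hK (hH h hh)
  · refine ⟨(((NU.X Z hK ha).mul Z hK (NU.n Z hK).1).mul Z hK (NU.H Z hK hh)).mul Z hK
      (NU.X Z hK ha'), ?_⟩
    rw [show n0⁻¹ * (a * (DT).nJ 1 * h * a') * n0 = (n0⁻¹ * a * n0) * (n0⁻¹ * (DT).nJ 1 * n0) *
      (n0⁻¹ * h * n0) * (n0⁻¹ * a' * n0) by group]
    exact (((hX a ha).mul Z hK hn).mul Z hK (hH h hh)).mul Z hK (hX a' ha')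

include Z hK in
/-- after the first step the conjugate is `(opposite radical) · (Levi) · (radical)` -/
theorem step_levi (hm : 1 ≤ m) (C0 : Fˣ) {g : ↥(chevF4.group F)} (hg : g ∈ G₁) (h1 : g ≠ 1) :
    ∃ y ∈ G₁, ∃ c ∈ (DT).Uo 1, c ∈ G₁ ∧ ∃ l, Lev Z hK l ∧ dd K l = (C0 : F) ∧ ∃ c' ∈ (DT).Uo 1, c' ∈ G₁ ∧
      y * g * y⁻¹ = (DT).nW W0 * c * ((DT).nW W0)⁻¹ * l * c' := by
  obtain ⟨y, hy, u, hu, p, hp, hd, e⟩ := step_one Z hK hm C0 hg h1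
  obtain ⟨a, ha, c, hc, rfl, ha', -⟩ :=
    (DT).fixed_decomp (MT.shapeR K) 1 (Subgroup.mem_inf.1 hu).2 ((DT).fixed u (Subgroup.mem_inf.1 hu).1)
  have haX := (DT).X_mem ha ha'
  have hc1 : c ∈ G₁ := by simpa using mul_mem (inv_mem (Subgroup.mem_inf.1 haX).1) (Subgroup.mem_inf.1 hu).1
  set n0 := (DT).nW W0 with hn0
  set v := n0 * a * n0⁻¹ with hv
  have hv1 : v ∈ G₁ :=
    mul_mem (mul_mem ((DT).nW_mem W0) (Subgroup.mem_inf.1 haX).1) (inv_mem ((DT).nW_mem W0))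
  have hvV : v ∈ V (MT.rel K) :=
    Sg_mono _ (fun r hr => (DT).cls_pos 1 _ hr) (w0_X Z hK haX).1
  obtain ⟨⟨a2, ha2, e2⟩, -⟩ := opp_eq Z hK (w0_X Z hK haX).1 hv1
  have hvp : v * p ∈ (DT).par1 [1] := by
    refine mul_mem ?_ hp
    rw [hv, hn0, e2]
    exact mul_mem (mul_mem ((DT).nJ_mem_par1 (List.mem_singleton_self 1))
      ((DT).B1_le_par1 [1] ((DT).U1_le_B1 ((DT).X_le_U1 1 ha2))))
      (inv_mem ((DT).nJ_mem_par1 (List.mem_singleton_self 1)))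
  obtain ⟨l, hl, c', hc', hc1', el⟩ := par_decomp Z hK hvp
  refine ⟨y, hy, a * c * a⁻¹, (DT).Uk_conj_Uo 1 ha hc,
    mul_mem (mul_mem (Subgroup.mem_inf.1 haX).1 hc1) (inv_mem (Subgroup.mem_inf.1 haX).1),
    l, hl, ?_, c', hc', hc1', ?_⟩
  · have h2 : dd K (v * p) = (C0 : F) := by rw [dd_left_V hvV, hd]
    rw [el, dd_right_U ((DT).Uo_le_U 1 hc')] at h2
    exact h2
  · rw [e, mul_assoc _ l c', ← el, hv]
    group

end Cfsg.Agent.F4Cover55
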