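import Cfsg.Agent.F4Cover55.Torus

/-!
First step of the Gauss decomposition of the twisted group of type F4 (helper55): every element outside the
identity has a conjugate in `V · (the kernel of the coefficient on the parabolic subgroup)`.
-/

set_option autoImplicit false
set_option maxRecDepth 4000
set_option maxHeartbeats 1000000
set_option linter.unusedSectionVars false

namespace Cfsg.Agent.F4Cover55

open Cfsg.Lie ChevGroup ChevIsogeny Twisted Twisted.TypeF4

variable {F : Type*} [Field F] [Fintype F] {m : ℕ} {K : Rels chevF4 F}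
  (Z : Frame (T := MT) K PP (2 ^ m) fd) (hK : Fintype.card F = 2 ^ (2 * m + 1))

set_option quotPrecheck false in
local notation "G₁" => genG MT K (f4Words F (2 ^ m))

set_option quotPrecheck false in
local notation "DT" => (gens Z hK).data

theorem wd1_hi : (MT.S).actw (fd.O.wd 1) hi = hi := by decide +kernel

theorem rep_moves : ∀ c : Fin stepP.m, c.val ≠ 0 →
    (MT.S).actw ((stepP.repF c).map fd.O.wd).flatten hi ≠ hi := by decide +kernel

theorem rep_norm : ∀ c : Fin stepP.m, c.val ≠ 0 →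
    let r := (MT.S).actw ((stepP.repF c).map fd.O.wd).flatten hi
    NormOK (pr 0 hi - pr 0 r) (pr 3 hi - pr 3 r) ∨ NormOK (pr 1 hi - pr 1 r) (pr 2 hi - pr 2 r) := by
  decide +kernel

theorem w0_neg : ∀ r, (MT.S).pos r → (MT.S).pos ((MT.S).neg ((MT.S).actw (W0.map fd.O.wd).flatten r)) := by
  decide +kernel

theorem birk_perm : ∀ c : Fin stepP.m,
    (MT.S).actw ((W0 ++ stepP.repF c).map fd.O.wd).flatten hi ≠ hi ∨
      (∀ r, (MT.S).actw ((W0 ++ stepP.repF c).map fd.O.wd).flatten r =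
        (MT.S).actw (([] : List (Fin 2)).map fd.O.wd).flatten r) ∨
      (∀ r, (MT.S).actw ((W0 ++ stepP.repF c).map fd.O.wd).flatten r =
        (MT.S).actw (([1] : List (Fin 2)).map fd.O.wd).flatten r) := by
  decide +kernel

include Z hK in
theorem aw_eq' (W : List (Fin 2)) : (DT).aw W = (W.map fd.O.wd).flatten := rfl

include Z hK in
/-- the parabolic subgroup fixes the line at the highest root -/
theorem fixLine_par {p : ↥(chevF4.group F)} (hp : p ∈ (DT).par1 [1]) : FixLine K p := by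
  have hB : ∀ b ∈ (DT).B1, FixLine K b := by
    intro b hb
    obtain ⟨u, hu, h, hh, rfl⟩ := (MT.rel K).mem_B_iff.1 (Subgroup.mem_inf.1 hb).2
    exact (fixLine_U hu).1.mul (fixLine_H hh)
  have hn : FixLine K ((DT).nJ 1) ∧ FixLine K ((DT).nJ 1)⁻¹ := by
    have hc := (DT).nJ_coset 1
    refine ⟨fixLine_coset hc wd1_hi, fixLine_coset (hc.inv _) ?_⟩
    have := wd1_hi
    conv_lhs => rw [← this]
    exact (MT.S).actw_reverse _ _
  unfold Data.par1 at hp
  rw [← Subgroup.closure_eq (DT).B1, ← Subgroup.closure_union] at hp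
  induction hp using Subgroup.closure_induction'' with
  | mem g hg =>
    rcases hg with hg | ⟨j, hj, rfl⟩
    · exact hB g hg
    · simp only [Set.mem_setOf_eq, List.mem_singleton] at hj; subst hj; exact hn.1
  | inv_mem g hg =>
    rcases hg with hg | ⟨j, hj, rfl⟩
    · exact hB _ (inv_mem hg)
    · simp only [Set.mem_setOf_eq, List.mem_singleton] at hj; subst hj; exact hn.2
  | one => exact fixLine_H (one_mem _)
  | mul g h _ _ hg hh => exact hg.mul hh

include Z hK in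
theorem dd_par_ne {p : ↥(chevF4.group F)} (hp : p ∈ (DT).par1 [1]) : dd K p ≠ 0 := by
  intro e
  have h1 : dd K (p⁻¹ * p) = dd K p⁻¹ * dd K p := dd_right (fixLine_par Z hK hp) _
  rw [inv_mul_cancel, dd_one, e, mul_zero] at h1
  exact one_ne_zero h1

include Z hK in
/-- every element lies in a cell of the parabolic subgroup -/
theorem cell_cover {g : ↥(chevF4.group F)} (hg : g ∈ G₁) :
    ∃ c : Fin stepP.m, ∃ b ∈ (DT).B1, ∃ p ∈ (DT).par1 [1], g = b * (DT).nW (stepP.repF c) * p := by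
  have X := gens Z hK
  have hC := X.valid stepP_ok
  have h0 := X.longest long_ok
  have hg' : g ∈ (DT).par1 stepP.KS := by
    rwa [(DT).par1_eq_top X.split (J := stepP.KS) (fun k => by revert k; decide)]
  obtain ⟨c, hc⟩ := Set.mem_iUnion.1 ((DT).step_cover (MT.shapeR K) h0 X.split hC hg')
  obtain ⟨b, hb, e⟩ := mem_cell.1 hc
  rw [QuotientGroup.eq] at e
  exact ⟨c, b, hb, (b * (DT).nW (stepP.repF c))⁻¹ * g, e, by group⟩

include Z hK in
/-- an element with non-zero coefficient lies in `V · P` -/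
theorem birkhoff {g : ↥(chevF4.group F)} (hg : g ∈ G₁) (hd : dd K g ≠ 0) :
    ∃ u ∈ (DT).U1, ∃ p ∈ (DT).par1 [1], g = (DT).nW W0 * u * ((DT).nW W0)⁻¹ * p := by
  have X := gens Z hK
  have h0 := X.longest long_ok
  set n0 := (DT).nW W0 with hn0
  obtain ⟨c, b, hb, p, hp, e⟩ := cell_cover Z hK (mul_mem (inv_mem ((DT).nW_mem W0)) hg)
  obtain ⟨u, hu, h, hh, rfl⟩ := (DT).exists_U1_H1 (MT.shapeR K) h0 hb
  have hh' : n0 * h * n0⁻¹ ∈ (DT).H1 := by
    refine Subgroup.mem_inf.2 ⟨mul_mem (mul_mem ((DT).nW_mem W0) (Subgroup.mem_inf.1 hh).1)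
      (inv_mem ((DT).nW_mem W0)), ?_⟩
    obtain ⟨t, ht, et⟩ := (DT).nW_coset W0
    rw [hn0, et]
    have := mul_mem (mul_mem ht (nw_conj_mem_H (MT.rel K) ((DT).aw W0) (Subgroup.mem_inf.1 hh).2))
      (inv_mem ht)
    simpa [mul_assoc] using this
  set nn := n0 * (DT).nW (stepP.repF c) with hnn
  have e2 : g = (n0 * u * n0⁻¹) * ((n0 * h * n0⁻¹) * nn * p) := by
    rw [show g = n0 * (n0⁻¹ * g) by group, e, hnn]; group
  refine ⟨u, hu, (n0 * h * n0⁻¹) * nn * p, ?_, e2⟩
  have hv : n0 * u * n0⁻¹ ∈ V (MT.rel K) :=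
    ((DT).nW_coset W0).conj_Sg _ (T := (MT.S).pos) (T' := fun r => (MT.S).pos ((MT.S).neg r))
      w0_neg (Subgroup.mem_inf.1 hu).2
  have hnn' : InCoset (MT.rel K) nn ((DT).aw (W0 ++ stepP.repF c)) := by
    have := (DT).nW_coset (W0 ++ stepP.repF c)
    rwa [(DT).nW_append] at this
  have hd' : dd K nn ≠ 0 := by
    intro z
    apply hd
    rw [e2, dd_left_V hv, dd_right (fixLine_par Z hK hp), dd_left_H (Subgroup.mem_inf.1 hh').2, z,
      mul_zero, zero_mul]
  have hnP : nn ∈ (DT).par1 [1] := by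
    have hcase : ∀ J : List (Fin 2), (∀ j ∈ J, j ∈ [(1 : Fin 2)]) →
        (∀ r, (MT.S).actw ((DT).aw (W0 ++ stepP.repF c)) r = (MT.S).actw ((DT).aw J) r) →
        nn ∈ (DT).par1 [1] := by
      intro J hJ h
      have h1 := (DT).B1_le_par1 [1] ((DT).H1_le_B1 ((DT).mem_H1_of_perm h))
      have h2 := mul_mem ((DT).nW_mem_par1 hJ) h1
      rw [← mul_assoc, mul_inv_cancel, one_mul, (DT).nW_append] at h2
      exact h2
    rcases birk_perm c with h | h | h
    · exact absurd (dd_coset_zero hnn' h) hd'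
    · exact hcase [] (by simp) h
    · exact hcase [1] (by simp) h
  exact mul_mem (mul_mem ((DT).B1_le_par1 [1] ((DT).H1_le_B1 hh')) hnP) hp

include Z hK in
/-- each cell has a member whose coefficient does not vanish -/
theorem cell_coeff (hm : 1 ≤ m) : ∀ c : Fin stepP.m,
    ∃ u ∈ (DT).U1, dd K (u * (DT).nW (stepP.repF c)) ≠ 0 := by
  have X := gens Z hK
  have hC := X.valid stepP_ok
  have h0 := X.longest long_ok
  have key : ∀ c : Fin stepP.m, ∃ v, v ∈ V (MT.rel K) ∧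
      (v : ↥(chevF4.group F) ⧸ (DT).par1 [1]) ∈
        cell (DT).B1 ((DT).par1 [1]) ((DT).nW (stepP.repF c)) := by
    intro c
    obtain ⟨c, hc⟩ := c
    induction c using Nat.strong_induction_on with
    | _ c IH =>
      by_cases h : c = 0
      · subst h
        refine ⟨1, one_mem _, ?_⟩
        rw [show stepP.repF ⟨0, hc⟩ = [] from rfl, (DT).nW_nil]
        exact self_mem_cell _ _ _
      · obtain ⟨k, -, ⟨d, hd⟩, hdc, hrep, hback⟩ := hC.chain ⟨c, hc⟩ h
        obtain ⟨v, hv, hvc⟩ := IH d hdc hd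
        obtain ⟨a, ha, ha1⟩ : ∃ a ∈ (DT).X k, a ≠ 1 := by
          match k with
          | 0 =>
            refine ⟨pairW K m 1, pairW_mem_X Z hK 1, fun e => ?_⟩
            have h1 : pairW K m (1 : F) = pairW K m 0 := by
              rw [e]; simp [pairW, prodX, two, (MT.rel K).x_zero]
            rw [pairW, pairW, Z.prodX_perm (L := [33, 24]) (L' := [24, 33]) (by decide) (list_ok Z _ (by decide)),
              Z.prodX_perm (L := [33, 24]) (L' := [24, 33]) (by decide) (list_ok Z _ (by decide))] at h1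
            exact one_ne_zero (Z.prodX_inj (L := [24, 33]) (by decide +kernel) h1 24 (by simp) :)
          | 1 =>
            refine ⟨clsW K m 1 0, clsW_mem_X Z hK 1 0, fun e => ?_⟩
            have h1 : clsW K m (1 : F) 0 = form K 0 0 0 0 := by
              rw [e]; simp [form, prodX, two, (MT.rel K).x_zero]
            exact one_ne_zero (form_inj Z hK h1).2.1
        obtain ⟨b₁, hb₁, b₂, hb₂, e⟩ := X.rank k a ha ha1
        set x' := (DT).nJ k * a * ((DT).nJ k)⁻¹ with hx'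
        refine ⟨x' * v, mul_mem ((DT).nJ_conj_Uk k (Subgroup.mem_inf.1 ha).2) hv, ?_⟩
        have hup := (DT).up_of_back (MT.shapeR K) h0 hback ((DT).B1_le_par1 [1])
        rw [← hrep] at hup
        have := hup.smul hb₁ hb₂ hvc
        rw [← e] at this
        exact this
  intro c
  obtain ⟨v, hv, hvc⟩ := key c
  obtain ⟨b, hb, e⟩ := mem_cell.1 hvc
  rw [QuotientGroup.eq] at e
  obtain ⟨u, hu, h, hh, rfl⟩ := (DT).exists_U1_H1 (MT.shapeR K) h0 hb
  refine ⟨u, hu, fun z => ?_⟩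
  set n := (DT).nW (stepP.repF c)
  have hH : n⁻¹ * h * n ∈ (MT.rel K).H := by
    obtain ⟨t, ht, et⟩ := (DT).nW_coset (stepP.repF c)
    have := (MT.rel K).nw_inv_conj_mem_H ((DT).aw (stepP.repF c))
      (mul_mem (mul_mem (inv_mem ht) (Subgroup.mem_inf.1 hh).2) ht)
    show n⁻¹ * h * n ∈ _
    simp only [n, et]
    simpa [mul_assoc] using this
  have e2 : v = u * n * (n⁻¹ * h * n) * ((u * h * n)⁻¹ * v) := by group
  have h1 : dd K v = 1 := by rw [← mul_one v, dd_left_V hv, dd_one]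
  rw [e2, dd_right (fixLine_par Z hK e), dd_right (fixLine_H hH), z, zero_mul, zero_mul] at h1
  exact zero_ne_one h1

include Z hK in
/-- every non-identity element has a conjugate outside the parabolic subgroup -/
theorem exists_not_par (hm : 1 ≤ m) {g : ↥(chevF4.group F)} (hg : g ∈ G₁) (h1 : g ≠ 1) :
    ∃ y ∈ G₁, y * g * y⁻¹ ∉ (DT).par1 [1] := by
  by_contra hcon
  push Not at hcon
  let e : ↥(genG MT K (f4Words F (2 ^ m))) ≃* ↥(twistedF4 F (2 ^ m)) :=
    ((genG MT K (f4Words F (2 ^ m))).equivMapOfInjective _ (chevF4.group F).subtype_injective).trans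
      (MulEquiv.subgroupCongr (genG_map (T := MT) (K := K) _))
  haveI : IsSimpleGroup ↥(genG MT K (f4Words F (2 ^ m))) := e.isSimpleGroup_congr.2 (simple Z hK hm).1
  let g' : ↥(genG MT K (f4Words F (2 ^ m))) := ⟨g, hg⟩
  let Q := ((DT).par1 [1]).subgroupOf (genG MT K (f4Words F (2 ^ m)))
  have hle : Subgroup.normalClosure {g'} ≤ Q := by
    refine (Subgroup.closure_le _).2 fun x hx => ?_
    obtain ⟨a, ha, hc⟩ := Group.mem_conjugatesOfSet_iff.1 hx
    rw [Set.mem_singleton_iff] at ha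
    subst ha
    obtain ⟨y, rfl⟩ := isConj_iff.1 hc
    exact hcon y y.2
  rcases (Subgroup.normalClosure_normal (s := {g'})).eq_bot_or_eq_top with h | h
  · have : g' ∈ Subgroup.normalClosure {g'} := Subgroup.subset_normalClosure rfl
    rw [h, Subgroup.mem_bot] at this
    exact h1 (congrArg Subtype.val this)
  · rw [h, top_le_iff] at hle
    have hq : (⟨(DT).nW W0, (DT).nW_mem W0⟩ : ↥(genG MT K (f4Words F (2 ^ m)))) ∈ Q := by
      rw [hle]; trivial
    refine dd_par_ne Z hK (Subgroup.mem_subgroupOf.1 hq) (dd_coset_zero ((DT).nW_coset W0) ?_)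
    show (MT.S).actw (W0.map fd.O.wd).flatten hi ≠ hi
    decide +kernel

include Z hK in
/-- the first step -/
theorem step_one (hm : 1 ≤ m) (C0 : Fˣ) {g : ↥(chevF4.group F)} (hg : g ∈ G₁) (h1 : g ≠ 1) :
    ∃ y ∈ G₁, ∃ u ∈ (DT).U1, ∃ p ∈ (DT).par1 [1], dd K p = (C0 : F) ∧
      y * g * y⁻¹ = (DT).nW W0 * u * ((DT).nW W0)⁻¹ * p := by
  have X := gens Z hK
  have h0 := X.longest long_ok
  obtain ⟨y0, hy0, hy⟩ := exists_not_par Z hK hm hg h1
  set g0 := y0 * g * y0⁻¹ with hg0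
  have hg0m : g0 ∈ G₁ := mul_mem (mul_mem hy0 hg) (inv_mem hy0)
  obtain ⟨c, b, hb, p, hp, e⟩ := cell_cover Z hK hg0m
  have hc : c.val ≠ 0 := by
    intro hc
    apply hy
    rw [e, show stepP.repF c = [] by rw [show c = ⟨0, hc ▸ c.isLt⟩ from Fin.ext hc]; rfl, (DT).nW_nil,
      mul_one]
    exact mul_mem ((DT).B1_le_par1 [1] hb) hp
  set n := (DT).nW (stepP.repF c) with hn
  set p' := p * b
  have hp' : p' ∈ (DT).par1 [1] := mul_mem hp ((DT).B1_le_par1 [1] hb)
  obtain ⟨u, hu, hne⟩ := cell_coeff Z hK hm c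
  rw [← hn] at hne
  set r := (MT.S).actw ((stepP.repF c).map fd.O.wd).flatten hi with hr
  -- a torus element giving the coefficient one
  have hchar : ∀ w : Fˣ, ∃ y z : Fˣ,
      chi MT (cvec m y z) hi * (chi MT (cvec m y z) r)⁻¹ = w := by
    intro w
    rcases rep_norm c hc with hN | hN
    · obtain ⟨t, ht⟩ := norm_surj hK hN w
      refine ⟨t, 1, ?_⟩
      rw [chi_cvec, chi_cvec, ← ht, zpow_sub, zpow_sub, ← hr]
      simp [mul_comm, mul_left_comm, mul_assoc]
    · obtain ⟨t, ht⟩ := norm_surj hK hN w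
      refine ⟨1, t, ?_⟩
      rw [chi_cvec, chi_cvec, ← ht, zpow_sub, zpow_sub, ← hr]
      simp [mul_comm, mul_left_comm, mul_assoc]
  have hd0 : dd K (u * n) * dd K p' ≠ 0 := mul_ne_zero hne (dd_par_ne Z hK hp')
  obtain ⟨ty, tz, htz⟩ := hchar (C0 * (Units.mk0 _ hd0)⁻¹)
  set C := cvec m ty tz with hC
  set h := tor MT K C with hh
  have hhH : h ∈ (MT.rel K).H := Z.tor_mem_H C
  have hh1 : h ∈ (DT).H1 := tor_mem_H1 Z hK ty tz
  set y1 := h * u * h⁻¹ with hy1
  have hy1U : y1 ∈ (MT.rel K).U := H_conj_Sg _ hhH (Subgroup.mem_inf.1 hu).2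
  have hy1G : y1 ∈ G₁ := mul_mem (mul_mem (Subgroup.mem_inf.1 hh1).1 (Subgroup.mem_inf.1 hu).1)
    (inv_mem (Subgroup.mem_inf.1 hh1).1)
  set Y := y1 * b⁻¹ * y0 with hY
  have hYm : Y ∈ G₁ := mul_mem (mul_mem hy1G (inv_mem (Subgroup.mem_inf.1 hb).1)) hy0
  have eY : Y * g * Y⁻¹ = y1 * (n * p') * y1⁻¹ := by
    have : Y * g * Y⁻¹ = y1 * (b⁻¹ * g0 * b) * y1⁻¹ := by rw [hY, hg0]; group
    rw [this, e]
    simp only [p']
    group
  have hval : dd K (Y * g * Y⁻¹) = (C0 : F) := by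
    have hc' : dd K (n⁻¹ * h⁻¹ * n) = ((chi MT C r)⁻¹ : Fˣ) := by
      have e1 : h⁻¹ = tor MT K C⁻¹ := by rw [hh, ← Z.torHom_apply, ← map_inv, Z.torHom_apply]
      rw [e1, dd_conj_tor Z ((DT).nW_coset (stepP.repF c))]
      congr 1
      simp [chi, hr, aw_eq' Z hK, Finset.prod_inv_distrib]
    have hH' : n⁻¹ * h⁻¹ * n ∈ (MT.rel K).H := by
      obtain ⟨c', hc', -⟩ := exists_conj_tor Z ((DT).nW_coset (stepP.repF c)) C⁻¹
      have e1 : h⁻¹ = tor MT K C⁻¹ := by rw [hh, ← Z.torHom_apply, ← map_inv, Z.torHom_apply]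
      rw [e1, ← hc']
      exact Z.tor_mem_H c'
    rw [eY, dd_right_U (inv_mem hy1U), ← mul_assoc, dd_right (fixLine_par Z hK hp'),
      show y1 * n = h * (u * n) * (n⁻¹ * h⁻¹ * n) by rw [hy1]; group,
      dd_right (fixLine_H hH'), dd_left_H hhH, hc', hh, dd_tor]
    have h4 := congrArg Units.val htz
    push_cast at h4 ⊢
    simp only [Units.val_mk0] at h4
    have nz1 := dd_par_ne Z hK hp'
    field_simp at h4 ⊢
    linear_combination h4
  have hYg : Y * g * Y⁻¹ ∈ G₁ := mul_mem (mul_mem hYm hg) (inv_mem hYm)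
  obtain ⟨u', hu', q, hq, eq⟩ := birkhoff Z hK hYg (by rw [hval]; exact C0.ne_zero)
  refine ⟨Y, hYm, u', hu', q, hq, ?_, eq⟩
  have hv : (DT).nW W0 * u' * ((DT).nW W0)⁻¹ ∈ V (MT.rel K) :=
    ((DT).nW_coset W0).conj_Sg _ (T := (MT.S).pos) (T' := fun r => (MT.S).pos ((MT.S).neg r))
      w0_neg (Subgroup.mem_inf.1 hu').2
  rw [← hval, eq, dd_left_V hv]

end Cfsg.Agent.F4Cover55
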