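import Cfsg.Agent.F4Cover55.Levi
import Cfsg.Agent.CharDeep.SzUniq.Main

/-!
The derived Levi subgroup of the parabolic subgroup is a Suzuki group (helper55).
-/

set_option autoImplicit false
set_option maxRecDepth 4000
set_option maxHeartbeats 1000000
set_option linter.unusedSectionVars false
set_option linter.style.haveILetI false

namespace Cfsg.Agent.F4Cover55

open scoped commutatorElement

noncomputable section

open Cfsg.Lie ChevGroup ChevIsogeny Twisted Twisted.TypeF4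

variable {F : Type*} [Field F] [Fintype F] {m : ℕ} {K : Rels chevF4 F}
  (Z : Frame (T := MT) K PP (2 ^ m) fd) (hK : Fintype.card F = 2 ^ (2 * m + 1)) (hm : 1 ≤ m)

set_option quotPrecheck false in
local notation "G₁" => genG MT K (f4Words F (2 ^ m))

set_option quotPrecheck false in
local notation "DT" => (gens Z hK).data

include Z hK in
theorem dd_par_mul {p q : ↥(chevF4.group F)} (hq : q ∈ (DT).par1 [1]) :
    dd K (p * q) = dd K p * dd K q := dd_right (fixLine_par Z hK hq) p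

/-- the derived Levi subgroup -/
def LL : Subgroup ↥(chevF4.group F) where
  carrier := {p | p ∈ (DT).par1 [1] ∧ (∀ t : Fˣ, Commute (tor MT K (zpar m t)) p) ∧ dd K p = 1}
  one_mem' := ⟨one_mem _, fun _ => Commute.one_right _, dd_one⟩
  mul_mem' := fun ha hb =>
    ⟨mul_mem ha.1 hb.1, fun t => (ha.2.1 t).mul_right (hb.2.1 t), by
      rw [dd_par_mul Z hK hb.1, ha.2.2, hb.2.2, one_mul]⟩
  inv_mem' := by
    intro a ha
    refine ⟨inv_mem ha.1, fun t => (ha.2.1 t).inv_right, ?_⟩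
    have h : dd K (a⁻¹ * a) = dd K a⁻¹ * dd K a := dd_par_mul Z hK ha.1
    rw [inv_mul_cancel, dd_one, ha.2.2, mul_one] at h
    exact h.symm

include Z hK in
theorem mem_LL_of_lev {l : ↥(chevF4.group F)} (hl : Lev Z hK l) (hd : dd K l = 1) : l ∈ LL Z hK :=
  ⟨hl.mem_par Z hK, hl.comm Z hK, hd⟩

include Z hK hm in
theorem lev_of_LL {p : ↥(chevF4.group F)} (hp : p ∈ LL Z hK) : Lev Z hK p := by
  obtain ⟨t, ht⟩ := exists_t Z hK hm
  exact lev_of_comm Z hK ht hp.1 (hp.2.1 t)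

include Z hK in
theorem X_LL {a : ↥(chevF4.group F)} (ha : a ∈ (DT).X 1) : a ∈ LL Z hK :=
  ⟨(DT).B1_le_par1 [1] ((DT).U1_le_B1 ((DT).X_le_U1 1 ha)), fun t => zc_comm_X Z hK t ha,
    (fixLine_U (Subgroup.mem_inf.1 ((DT).X_le_U1 1 ha)).2).2⟩

/-- the torus of the derived Levi subgroup -/
def th (m : ℕ) (K : Rels chevF4 F) (z : Fˣ) : ↥(chevF4.group F) := tor MT K (cvec m 1 z)

include Z hK in
theorem th_H1 (z : Fˣ) : th m K z ∈ (DT).H1 := tor_mem_H1 Z hK 1 z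

include Z hK in
theorem th_LL (z : Fˣ) : th m K z ∈ LL Z hK :=
  ⟨(DT).B1_le_par1 [1] ((DT).H1_le_B1 (th_H1 Z hK z)), fun t => zc_comm_H Z hK t (th_H1 Z hK z), by
    rw [th, dd_tor, chi_hi]; rfl⟩

include Z hK in
theorem H1_LL {h : ↥(chevF4.group F)} (hh : h ∈ (DT).H1) (hd : dd K h = 1) : ∃ z, h = th m K z := by
  obtain ⟨y, z, rfl⟩ := H1_exists Z hK hh
  rw [dd_tor, chi_hi] at hd
  obtain rfl : y = 1 := Units.ext hd
  exact ⟨z, rfl⟩

include Z hK in
theorem nJ_dd_ne : dd K ((DT).nJ 1) ≠ 0 :=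
  dd_par_ne Z hK ((DT).nJ_mem_par1 (List.mem_singleton_self 1))

/-- the torus element normalising the representative -/
noncomputable def hn : ↥(chevF4.group F) :=
  tor MT K (cvec m (Units.mk0 _ (nJ_dd_ne Z hK))⁻¹ 1)

include Z hK in
theorem hn_H1 : hn Z hK ∈ (DT).H1 := tor_mem_H1 Z hK _ 1

/-- the representative of the non-trivial coset -/
noncomputable def nn : ↥(chevF4.group F) := (DT).nJ 1 * hn Z hK

include Z hK in
theorem nn_LL : nn Z hK ∈ LL Z hK := by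
  refine ⟨mul_mem ((DT).nJ_mem_par1 (List.mem_singleton_self 1))
    ((DT).B1_le_par1 [1] ((DT).H1_le_B1 (hn_H1 Z hK))),
    fun t => (zc_comm_n Z hK t).mul_right (zc_comm_H Z hK t (hn_H1 Z hK)), ?_⟩
  rw [nn, dd_right (fixLine_H (Subgroup.mem_inf.1 (hn_H1 Z hK)).2), hn, dd_tor, chi_hi]
  simp [mul_inv_cancel₀ (nJ_dd_ne Z hK)]

include Z hK in
theorem dd_H_inv {h : ↥(chevF4.group F)} (hh : h ∈ (DT).H1) : dd K h⁻¹ * dd K h = 1 := by
  have := dd_right (fixLine_H (Subgroup.mem_inf.1 hh).2) h⁻¹ (K := K)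
  rwa [inv_mul_cancel, dd_one, eq_comm] at this

include Z hK hm in
/-- the normal forms -/
theorem LL_forms {p : ↥(chevF4.group F)} (hp : p ∈ LL Z hK) :
    (∃ a ∈ (DT).X 1, ∃ z, p = a * th m K z) ∨
      ∃ a ∈ (DT).X 1, ∃ z, ∃ a' ∈ (DT).X 1, p = a * nn Z hK * th m K z * a' := by
  rcases lev_of_LL Z hK hm hp with ⟨a, ha, h, hh, e⟩ | ⟨a, ha, h, hh, a', ha', e⟩
  · obtain ⟨z, rfl⟩ := H1_LL Z hK hh (by
      have h1 : h = a⁻¹ * p := by rw [e]; group
      rw [h1]; exact (mul_mem (inv_mem (X_LL Z hK ha)) hp).2.2)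
    exact Or.inl ⟨a, ha, z, e⟩
  · have hq : (hn Z hK)⁻¹ * h ∈ (DT).H1 := mul_mem (inv_mem (hn_H1 Z hK)) hh
    obtain ⟨z, hz⟩ := H1_LL Z hK hq (by
      have h1 : (hn Z hK)⁻¹ * h = (nn Z hK)⁻¹ * (a⁻¹ * p * a'⁻¹) := by rw [e, nn]; group
      rw [h1]
      exact (mul_mem (inv_mem (nn_LL Z hK))
        (mul_mem (mul_mem (inv_mem (X_LL Z hK ha)) hp) (inv_mem (X_LL Z hK ha')))).2.2)
    exact Or.inr ⟨a, ha, z, a', ha', by rw [e, ← hz, nn]; group⟩

theorem wd1_opp : ∀ r : Fin MT.tab.n, r ∈ fd.O.cls 1 →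
    (MT.S).neg ((MT.S).actw (fd.O.wd 1).reverse r) ∈ fd.O.cls 1 := by
  decide +kernel

include Z hK in
theorem nn_B_inj {x : ↥(chevF4.group F)} (hx : x ∈ (DT).X 1)
    (h : (nn Z hK)⁻¹ * x * nn Z hK ∈ (DT).B1) : x = 1 := by
  have hv : ((DT).nJ 1)⁻¹ * x * (DT).nJ 1 ∈ V (MT.rel K) :=
    Sg_mono _ (fun r hr => (DT).cls_pos 1 _ hr)
      (((DT).nJ_coset 1).inv_conj_Sg _ (T' := fun r => (MT.S).neg r ∈ fd.O.cls 1) wd1_opp
        (Subgroup.mem_inf.1 hx).2)
  have hb : ((DT).nJ 1)⁻¹ * x * (DT).nJ 1 ∈ (DT).B1 := by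
    have := mul_mem (mul_mem ((DT).H1_le_B1 (hn_H1 Z hK)) h) (inv_mem ((DT).H1_le_B1 (hn_H1 Z hK)))
    rw [nn] at this
    simpa [mul_assoc] using this
  have := Data.one_of_B_of_V (MT.shapeR K) (Subgroup.mem_inf.1 hb).2 hv
  exact (conj_eq_one_iff (a := ((DT).nJ 1)⁻¹)).1 (by simpa [inv_inv] using this)

include Z hK in
theorem exists_X_ne : ∃ a ∈ (DT).X 1, a ≠ 1 := by
  refine ⟨clsW K m 1 0, clsW_mem_X Z hK 1 0, fun e => ?_⟩
  have h1 : clsW K m (1 : F) 0 = form K 0 0 0 0 := by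
    rw [e]; simp [form, prodX, two, (MT.rel K).x_zero]
  exact one_ne_zero (form_inj Z hK h1).2.1

include Z hK in
theorem nn_not_B : nn Z hK ∉ (DT).B1 := by
  intro h
  obtain ⟨a, ha, ha1⟩ := exists_X_ne Z hK
  exact ha1 (nn_B_inj Z hK ha (mul_mem (mul_mem (inv_mem h) ((DT).U1_le_B1 ((DT).X_le_U1 1 ha))) h))

theorem th_norm : ∀ r : Fin MT.tab.n, r ∈ fd.O.cls 1 → NormOK (pr 1 r) (pr 2 r) := by decide +kernel

include Z hK in
theorem th_fix {z : Fˣ} (hz : z ≠ 1) {a : ↥(chevF4.group F)} (ha : a ∈ (DT).X 1)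
    (h : Commute (th m K z) a) : a = 1 := by
  refine fix_X Z hK 1 (fun r hr h1 => hz (eq_one_of_norm hK (th_norm r hr) ?_)) ha h
  rw [chi_cvec] at h1
  simpa using h1

theorem th_flip : ∀ r : Fin MT.tab.n, pr 1 ((MT.S).actw (fd.O.wd 1) r) + pr 0 ((MT.S).actw (fd.O.wd 1) r) * 0 =
    - pr 1 r ∧ pr 2 ((MT.S).actw (fd.O.wd 1) r) = - pr 2 r := by
  decide +kernel

include Z hK in
theorem nn_th (z : Fˣ) : (nn Z hK)⁻¹ * th m K z * nn Z hK = th m K z⁻¹ := by
  have h1 : ((DT).nJ 1)⁻¹ * th m K z * (DT).nJ 1 = th m K z⁻¹ := by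
    refine coset_conj_tor Z ((DT).nJ_coset 1) fun r => ?_
    show _ = chi MT (cvec m 1 z) ((MT.S).actw (fd.O.wd 1) r)
    rw [chi_cvec, chi_cvec, (th_flip r).2, show pr 1 ((MT.S).actw (fd.O.wd 1) r) = - pr 1 r by
      simpa using (th_flip r).1]
    simp [zpow_neg]
  rw [nn]
  calc ((DT).nJ 1 * hn Z hK)⁻¹ * th m K z * ((DT).nJ 1 * hn Z hK)
      = (hn Z hK)⁻¹ * (((DT).nJ 1)⁻¹ * th m K z * (DT).nJ 1) * hn Z hK := by group
    _ = (hn Z hK)⁻¹ * (hn Z hK * th m K z⁻¹) := by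
      rw [h1, hn, th, mul_assoc, ← Z.tor_mul, mul_comm, Z.tor_mul]
    _ = _ := by group

/-- the stabiliser -/
abbrev BB : Subgroup ↥(LL Z hK) := ((DT).B1).subgroupOf (LL Z hK)

/-- the points -/
abbrev Pt := ↥(LL Z hK) ⧸ BB Z hK

/-- the base point -/
def pa : Pt Z hK := ((1 : ↥(LL Z hK)) : Pt Z hK)

/-- an element of the root group -/
def eX (a : ↥(chevF4.group F)) (ha : a ∈ (DT).X 1) : ↥(LL Z hK) := ⟨a, X_LL Z hK ha⟩

/-- the representative -/
noncomputable def eN : ↥(LL Z hK) := ⟨nn Z hK, nn_LL Z hK⟩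

/-- a torus element -/
def eH (z : Fˣ) : ↥(LL Z hK) := ⟨th m K z, th_LL Z hK z⟩

include Z hK in
theorem mem_BB {g : ↥(LL Z hK)} : g ∈ BB Z hK ↔ (g : ↥(chevF4.group F)) ∈ (DT).B1 :=
  Subgroup.mem_subgroupOf

include Z hK in
theorem eX_BB {a : ↥(chevF4.group F)} (ha : a ∈ (DT).X 1) : eX Z hK a ha ∈ BB Z hK :=
  (mem_BB Z hK).2 ((DT).U1_le_B1 ((DT).X_le_U1 1 ha))

include Z hK in
theorem eH_BB (z : Fˣ) : eH Z hK z ∈ BB Z hK := (mem_BB Z hK).2 ((DT).H1_le_B1 (th_H1 Z hK z))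

include Z hK in
theorem fix_pa {g : ↥(LL Z hK)} : g • pa Z hK = pa Z hK ↔ g ∈ BB Z hK := by
  rw [pa, MulAction.Quotient.smul_coe, smul_eq_mul, mul_one, QuotientGroup.eq, mul_one, inv_mem_iff]

/-- the second base point -/
noncomputable def pb : Pt Z hK := ((eN Z hK : ↥(LL Z hK)) : Pt Z hK)

include Z hK in
theorem pb_ne : pb Z hK ≠ pa Z hK := by
  intro h
  rw [pb, pa, QuotientGroup.eq, mul_one, inv_mem_iff, mem_BB] at h
  exact nn_not_B Z hK h

include Z hK hm in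
theorem points (c : Pt Z hK) :
    c = pa Z hK ∨ ∃ a, ∃ ha : a ∈ (DT).X 1, c = eX Z hK a ha • pb Z hK := by
  induction c using QuotientGroup.induction_on with
  | H g =>
    rcases LL_forms Z hK hm g.2 with ⟨a, ha, z, e⟩ | ⟨a, ha, z, a', ha', e⟩
    · left
      rw [pa, QuotientGroup.eq, mul_one, inv_mem_iff, mem_BB, e]
      exact mul_mem ((DT).U1_le_B1 ((DT).X_le_U1 1 ha)) ((DT).H1_le_B1 (th_H1 Z hK z))
    · right
      refine ⟨a, ha, ?_⟩
      rw [pb, MulAction.Quotient.smul_coe, smul_eq_mul]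
      have hg : g = eX Z hK a ha * eN Z hK * (eH Z hK z * eX Z hK a' ha') := Subtype.ext (by
        show (g : ↥(chevF4.group F)) = a * nn Z hK * (th m K z * a')
        rw [e, mul_assoc])
      rw [QuotientGroup.eq, hg]
      have : (eX Z hK a ha * eN Z hK * (eH Z hK z * eX Z hK a' ha'))⁻¹ * (eX Z hK a ha * eN Z hK) =
          (eH Z hK z * eX Z hK a' ha')⁻¹ := by group
      rw [this]
      exact inv_mem (mul_mem (eH_BB Z hK z) (eX_BB Z hK ha'))

include Z hK in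
theorem eX_pb_inj {a b : ↥(chevF4.group F)} {ha : a ∈ (DT).X 1} {hb : b ∈ (DT).X 1}
    (h : eX Z hK a ha • pb Z hK = eX Z hK b hb • pb Z hK) : a = b := by
  rw [pb, MulAction.Quotient.smul_coe, MulAction.Quotient.smul_coe, smul_eq_mul, smul_eq_mul,
    QuotientGroup.eq, mem_BB] at h
  have h' : (nn Z hK)⁻¹ * (a⁻¹ * b) * nn Z hK ∈ (DT).B1 := by
    have h2 : ((eX Z hK a ha * eN Z hK)⁻¹ * (eX Z hK b hb * eN Z hK) : ↥(LL Z hK)).val =
        (nn Z hK)⁻¹ * (a⁻¹ * b) * nn Z hK := by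
      show (a * nn Z hK)⁻¹ * (b * nn Z hK) = _
      group
    rw [h2] at h
    exact h
  exact inv_mul_eq_one.1 (nn_B_inj Z hK (mul_mem (inv_mem ha) hb) h')

include Z hK hm in
theorem fix_pa_pb {g : ↥(LL Z hK)} (h1 : g • pa Z hK = pa Z hK) (h2 : g • pb Z hK = pb Z hK) :
    ∃ z, g = eH Z hK z := by
  have hg := (mem_BB Z hK).1 ((fix_pa Z hK).1 h1)
  rcases LL_forms Z hK hm g.2 with ⟨a, ha, z, e⟩ | ⟨a, ha, z, a', ha', e⟩
  · refine ⟨z, Subtype.ext ?_⟩
    show (g : ↥(chevF4.group F)) = th m K z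
    rw [pb, MulAction.Quotient.smul_coe, smul_eq_mul, QuotientGroup.eq, mem_BB] at h2
    have h' : (nn Z hK)⁻¹ * a * nn Z hK ∈ (DT).B1 := by
      have h3 : ((g : ↥(chevF4.group F)) * nn Z hK)⁻¹ * nn Z hK ∈ (DT).B1 := h2
      have e2 : (nn Z hK)⁻¹ * a * nn Z hK =
          (((g : ↥(chevF4.group F)) * nn Z hK)⁻¹ * nn Z hK)⁻¹ * ((nn Z hK)⁻¹ * th m K z * nn Z hK)⁻¹ := by
        rw [e]; group
      rw [e2]
      refine mul_mem (inv_mem h3) (inv_mem ?_)
      rw [nn_th]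
      exact (DT).H1_le_B1 (th_H1 Z hK _)
    rw [e, nn_B_inj Z hK ha h', one_mul]
  · exfalso
    refine nn_not_B Z hK ?_
    have : nn Z hK = a⁻¹ * g * (a'⁻¹ * (th m K z)⁻¹) := by rw [e]; group
    rw [this]
    exact mul_mem (mul_mem (inv_mem ((DT).U1_le_B1 ((DT).X_le_U1 1 ha))) hg)
      (mul_mem (inv_mem ((DT).U1_le_B1 ((DT).X_le_U1 1 ha'))) (inv_mem ((DT).H1_le_B1 (th_H1 Z hK z))))

include Z hK hm in
theorem exists_move {a b : Pt Z hK} (hab : a ≠ b) :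
    ∃ g : ↥(LL Z hK), g • a = pa Z hK ∧ g • b = pb Z hK := by
  obtain ⟨g, hg⟩ := MulAction.exists_smul_eq ↥(LL Z hK) a (pa Z hK)
  rcases points Z hK hm (g • b) with h | ⟨x, hx, h⟩
  · exact absurd (MulAction.injective g (hg.trans h.symm)) hab
  · refine ⟨(eX Z hK x hx)⁻¹ * g, ?_, ?_⟩
    · rw [mul_smul, hg, inv_smul_eq_iff, (fix_pa Z hK).2 (eX_BB Z hK hx)]
    · rw [mul_smul, h, inv_smul_smul]

include Z hK in
theorem eH_fix (z : Fˣ) : eH Z hK z • pa Z hK = pa Z hK ∧ eH Z hK z • pb Z hK = pb Z hK := by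
  refine ⟨(fix_pa Z hK).2 (eH_BB Z hK z), ?_⟩
  rw [pb, MulAction.Quotient.smul_coe, smul_eq_mul, QuotientGroup.eq, mem_BB]
  show (th m K z * nn Z hK)⁻¹ * nn Z hK ∈ (DT).B1
  rw [show (th m K z * nn Z hK)⁻¹ * nn Z hK = ((nn Z hK)⁻¹ * th m K z * nn Z hK)⁻¹ by group, nn_th]
  exact inv_mem ((DT).H1_le_B1 (th_H1 Z hK _))

include Z hK hm in
theorem three_fix {g : ↥(LL Z hK)} (h1 : g • pa Z hK = pa Z hK) (h2 : g • pb Z hK = pb Z hK)
    {c : Pt Z hK} (hca : c ≠ pa Z hK) (hcb : c ≠ pb Z hK) (h3 : g • c = c) : g = 1 := by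
  obtain ⟨z, rfl⟩ := fix_pa_pb Z hK hm h1 h2
  obtain ⟨x, hx, rfl⟩ := (points Z hK hm c).resolve_left hca
  have hx' : th m K z * x * (th m K z)⁻¹ ∈ (DT).X 1 := H_conj_X Z hK (th_H1 Z hK z) hx
  have e1 : eX Z hK _ hx' • pb Z hK = eX Z hK x hx • pb Z hK := by
    have e2 : eX Z hK _ hx' = eH Z hK z * eX Z hK x hx * (eH Z hK z)⁻¹ := Subtype.ext rfl
    rw [e2, mul_smul, mul_smul, inv_smul_eq_iff.2 (eH_fix Z hK z).2.symm, h3]
  have e := eX_pb_inj Z hK e1
  by_cases hz : z = 1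
  · subst hz
    refine Subtype.ext ?_
    show th m K (1 : Fˣ) = 1
    have : th m K (1 : Fˣ) * th m K 1 = th m K 1 := by
      rw [th, ← Z.tor_mul]; congr 1; funext i; fin_cases i <;> simp [cvec]
    exact mul_eq_left.1 this
  · exfalso
    refine hcb ?_
    have := th_fix Z hK hz hx (mul_inv_eq_iff_eq_mul.1 e)
    subst this
    rw [show eX Z hK (1 : ↥(chevF4.group F)) hx = 1 from Subtype.ext rfl, one_smul]

include Z hK hm in
theorem zass : IsZassenhausGroup ↥(LL Z hK) (Pt Z hK) ∧ IsSimpleGroup ↥(LL Z hK) := by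
  classical
  have h3 : ∀ g : ↥(LL Z hK), ∀ a b c : Pt Z hK, a ≠ b → b ≠ c → a ≠ c → g • a = a → g • b = b →
      g • c = c → g = 1 := by
    intro g a b c hab hbc hac ha hb hc
    obtain ⟨y, hya, hyb⟩ := exists_move Z hK hm hab
    have key : ∀ d : Pt Z hK, g • d = d → (y * g * y⁻¹) • (y • d) = y • d := fun d hd => by
      rw [mul_smul, mul_smul, inv_smul_smul, hd]
    have := three_fix Z hK hm (g := y * g * y⁻¹) (c := y • c) (by rw [← hya]; exact key a ha)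
      (by rw [← hyb]; exact key b hb) (by rw [← hya]; exact fun h => hac (MulAction.injective y h).symm)
      (by rw [← hyb]; exact fun h => hbc (MulAction.injective y h).symm) (key c hc)
    exact conj_eq_one_iff.1 this
  obtain ⟨x1, hx1, hx1'⟩ := exists_X_ne Z hK
  set pc := eX Z hK x1 hx1 • pb Z hK with hpc
  have hcb : pc ≠ pb Z hK := by
    intro h
    refine hx1' (eX_pb_inj Z hK (ha := hx1) (b := 1) (hb := one_mem _) ?_)
    rw [← hpc, h, show eX Z hK (1 : ↥(chevF4.group F)) (one_mem _) = 1 from Subtype.ext rfl, one_smul]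
  have hca : pc ≠ pa Z hK := by
    intro h
    refine pb_ne Z hK (MulAction.injective (eX Z hK x1 hx1) ?_)
    show eX Z hK x1 hx1 • pb Z hK = eX Z hK x1 hx1 • pa Z hK
    rw [(fix_pa Z hK).2 (eX_BB Z hK hx1), ← hpc, h]
  have hfaith : FaithfulSMul ↥(LL Z hK) (Pt Z hK) := ⟨fun {g g'} h => by
    have key : ∀ d : Pt Z hK, (g'⁻¹ * g) • d = d := fun d => by rw [mul_smul, h, inv_smul_smul]
    exact (inv_mul_eq_one.1 (h3 _ _ _ _ (pb_ne Z hK).symm hcb.symm hca.symm (key _) (key _) (key _))).symm⟩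
  have h2t : MulAction.IsMultiplyPretransitive ↥(LL Z hK) (Pt Z hK) 2 := by
    rw [MulAction.is_two_pretransitive_iff]
    intro a b c d hab hcd
    obtain ⟨y, hya, hyb⟩ := exists_move Z hK hm hab
    obtain ⟨w, hwc, hwd⟩ := exists_move Z hK hm hcd
    exact ⟨w⁻¹ * y, by rw [mul_smul, hya, inv_smul_eq_iff, hwc],
      by rw [mul_smul, hyb, inv_smul_eq_iff, hwd]⟩
  obtain ⟨z, hz⟩ := exists_t Z hK hm
  have hH : eH Z hK z ≠ 1 := fun h => hx1' (th_fix Z hK hz hx1 (by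
    rw [show th m K z = 1 from congrArg Subtype.val h]; exact Commute.one_left _))
  -- the group is perfect
  set S := commutator ↥(LL Z hK) with hS
  have hXS : ∀ a (ha : a ∈ (DT).X 1), eX Z hK a ha ∈ S := by
    intro a ha
    let f : ↥((DT).X 1) → ↥((DT).X 1) := fun x => ⟨th m K z * x * (th m K z)⁻¹ * (x : ↥(chevF4.group F))⁻¹,
      mul_mem (H_conj_X Z hK (th_H1 Z hK z) x.2) (inv_mem x.2)⟩
    have hf : Function.Injective f := by
      intro x y h
      have h' : th m K z * x * (th m K z)⁻¹ * (x : ↥(chevF4.group F))⁻¹ =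
          th m K z * y * (th m K z)⁻¹ * (y : ↥(chevF4.group F))⁻¹ := congrArg Subtype.val h
      have hc : Commute (th m K z) ((y : ↥(chevF4.group F))⁻¹ * x) := by
        show _ = _
        calc th m K z * ((y : ↥(chevF4.group F))⁻¹ * x)
            = (th m K z * y * (th m K z)⁻¹ * (y : ↥(chevF4.group F))⁻¹ * y)⁻¹ *
              (th m K z * x * (th m K z)⁻¹ * (x : ↥(chevF4.group F))⁻¹) * x * th m K z := by group
          _ = (y : ↥(chevF4.group F))⁻¹ * x * th m K z := by rw [h']; group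
      exact (Subtype.ext (inv_mul_eq_one.1 (th_fix Z hK hz (mul_mem (inv_mem y.2) x.2) hc))).symm
    obtain ⟨x, hx⟩ := (Finite.injective_iff_surjective.1 hf) ⟨a, ha⟩
    have e : eX Z hK a ha = ⁅eH Z hK z, eX Z hK x x.2⁆ := by
      refine Subtype.ext ?_
      exact (congrArg Subtype.val hx).symm
    rw [e, hS, commutator_def]
    exact Subgroup.commutator_mem_commutator (Subgroup.mem_top _) (Subgroup.mem_top _)
  have hcn : ∀ s ∈ S, ∀ g, g * s * g⁻¹ ∈ S := fun s hs g => Subgroup.Normal.conj_mem inferInstance s hs g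
  obtain ⟨w, hw⟩ : ∃ w, eN Z hK * eH Z hK w ∈ S := by
    have hs : eN Z hK * eX Z hK x1 hx1 * (eN Z hK)⁻¹ ∈ S := hcn _ (hXS _ hx1) _
    set s := eN Z hK * eX Z hK x1 hx1 * (eN Z hK)⁻¹ with hsdef
    rcases LL_forms Z hK hm s.2 with ⟨a, ha, v, e⟩ | ⟨a, ha, v, a', ha', e⟩
    · exfalso
      have hb : (s : ↥(chevF4.group F)) ∈ (DT).B1 := by
        rw [e]; exact mul_mem ((DT).U1_le_B1 ((DT).X_le_U1 1 ha)) ((DT).H1_le_B1 (th_H1 Z hK v))
      have hfix : s • pa Z hK = pa Z hK := (fix_pa Z hK).2 ((mem_BB Z hK).2 hb)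
      have : eX Z hK x1 hx1 • ((eN Z hK)⁻¹ • pa Z hK) = (eN Z hK)⁻¹ • pa Z hK := by
        rw [hsdef, mul_smul, mul_smul, ← eq_inv_smul_iff] at hfix
        exact hfix
      set d := (eN Z hK)⁻¹ • pa Z hK with hd
      have hda : d ≠ pa Z hK := fun h => pb_ne Z hK (by
        rw [hd, inv_smul_eq_iff] at h
        rw [pb, h, pa, MulAction.Quotient.smul_coe, smul_eq_mul, mul_one])
      obtain ⟨y, hy, hdy⟩ := (points Z hK hm d).resolve_left hda
      rw [hdy, ← mul_smul, show eX Z hK x1 hx1 * eX Z hK y hy = eX Z hK (x1 * y) (mul_mem hx1 hy) from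
        Subtype.ext rfl] at this
      exact hx1' (mul_eq_right.1 (eX_pb_inj Z hK this))
    · refine ⟨v, ?_⟩
      have e' : eN Z hK * eH Z hK v = (eX Z hK a ha)⁻¹ * s * (eX Z hK a' ha')⁻¹ := Subtype.ext (by
        show nn Z hK * th m K v = a⁻¹ * (s : ↥(chevF4.group F)) * a'⁻¹
        rw [e]; group)
      rw [e']
      exact mul_mem (mul_mem (inv_mem (hXS _ ha)) hs) (inv_mem (hXS _ ha'))
  have hHS : ∀ v, eH Z hK v ∈ S := by
    intro v
    obtain ⟨r, hr⟩ : ∃ r : Fˣ, r * r = v := by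
      have hinj : Function.Injective (fun r : Fˣ => r * r) := fun r r' h =>
        Units.ext (sq_inj Z hK (by simpa [pow_two] using congrArg Units.val h))
      exact Finite.injective_iff_surjective.1 hinj v
    have h1 := mul_mem (inv_mem hw) (hcn _ hw (eH Z hK r))
    have e : (eN Z hK * eH Z hK w)⁻¹ * (eH Z hK r * (eN Z hK * eH Z hK w) * (eH Z hK r)⁻¹) =
        eH Z hK (r⁻¹ * r⁻¹) := by
      refine Subtype.ext ?_
      show (nn Z hK * th m K w)⁻¹ * (th m K r * (nn Z hK * th m K w) * (th m K r)⁻¹) = th m K (r⁻¹ * r⁻¹)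
      calc _ = (th m K w)⁻¹ * ((nn Z hK)⁻¹ * th m K r * nn Z hK) * th m K w * (th m K r)⁻¹ := by group
        _ = _ := by
          rw [nn_th]
          simp only [th, ← Z.torHom_apply, ← map_inv, ← map_mul]
          congr 1
          funext i
          fin_cases i <;> simp [cvec, mul_comm, mul_assoc, mul_left_comm, mul_pow]
    rw [e] at h1
    have e2 : eH Z hK v = (eH Z hK (r⁻¹ * r⁻¹))⁻¹ := by
      refine Subtype.ext ?_
      show th m K v = (th m K (r⁻¹ * r⁻¹))⁻¹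
      simp only [th, ← Z.torHom_apply, ← map_inv]
      congr 1
      funext i
      fin_cases i <;> simp [cvec, ← hr, inv_pow, mul_pow, mul_inv_rev]
    rw [e2]; exact inv_mem h1
  have hperf : S = ⊤ := by
    rw [eq_top_iff]
    intro g _
    have hn : eN Z hK ∈ S := by
      have := mul_mem hw (inv_mem (hHS w))
      rwa [mul_inv_cancel_right] at this
    rcases LL_forms Z hK hm g.2 with ⟨a, ha, v, e⟩ | ⟨a, ha, v, a', ha', e⟩
    · rw [show g = eX Z hK a ha * eH Z hK v from Subtype.ext e]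
      exact mul_mem (hXS _ ha) (hHS v)
    · rw [show g = eX Z hK a ha * eN Z hK * eH Z hK v * eX Z hK a' ha' from Subtype.ext e]
      exact mul_mem (mul_mem (mul_mem (hXS _ ha) hn) (hHS v)) (hXS _ ha')
  have hsimple : IsSimpleGroup ↥(LL Z hK) := by
    haveI : Nontrivial ↥(LL Z hK) := ⟨⟨_, _, hH⟩⟩
    refine IsSimpleGroup.mk fun N hN => ?_
    by_cases hall : ∀ g ∈ N, ∀ d : Pt Z hK, g • d = d
    · exact Or.inl ((Subgroup.eq_bot_iff_forall _).2 fun g hg =>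
        hfaith.eq_of_smul_eq_smul fun d => by rw [hall g hg d, one_smul])
    push Not at hall
    obtain ⟨g0, hg0, d0, hd0⟩ := hall
    refine Or.inr ?_
    have htr : ∀ d, ∃ g ∈ N, g • pa Z hK = d := by
      intro d
      by_cases hd : d = pa Z hK
      · exact ⟨1, one_mem _, by rw [one_smul, hd]⟩
      · obtain ⟨y, hy1, hy2⟩ := exists_move Z hK hm (Ne.symm hd0)
        obtain ⟨w, hw1, hw2⟩ := exists_move Z hK hm (Ne.symm hd)
        refine ⟨(w⁻¹ * y) * g0 * (w⁻¹ * y)⁻¹, hN.conj_mem _ hg0 _, ?_⟩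
        rw [mul_inv_rev, inv_inv, mul_smul, mul_smul, mul_smul y⁻¹, hw1, inv_smul_eq_iff.2 hy1.symm,
          mul_smul, hy2, inv_smul_eq_iff, hw2]
    have hsol : Group.IsSolvable ↥(BB Z hK) := by
      have hB := (DT).isSolvable_B1 (MT.shapeR K)
      let f : ↥(BB Z hK) →* ↥(((MT.rel K).B ⊓ G₁).subgroupOf G₁) :=
        { toFun := fun x => ⟨⟨(x : ↥(LL Z hK)), (Subgroup.mem_inf.1 ((mem_BB Z hK).1 x.2)).1⟩,
            Subgroup.mem_subgroupOf.2 (Subgroup.mem_inf.2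
              ⟨(Subgroup.mem_inf.1 ((mem_BB Z hK).1 x.2)).2, (Subgroup.mem_inf.1 ((mem_BB Z hK).1 x.2)).1⟩)⟩
          map_one' := rfl
          map_mul' := fun _ _ => rfl }
      exact Group.isSolvable_of_isSolvable_injective (f := f) fun x y e =>
        Subtype.ext (Subtype.ext (congrArg (fun u : ↥(((MT.rel K).B ⊓ G₁).subgroupOf G₁) => u.1.1) e :))
    haveI := hN
    have hsurj : Function.Surjective ((QuotientGroup.mk' N).comp (BB Z hK).subtype) := by
      intro q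
      induction q using QuotientGroup.induction_on with
      | H g =>
        obtain ⟨k, hk, hkg⟩ := htr (g⁻¹ • pa Z hK)
        refine ⟨⟨g * k, (fix_pa Z hK).1 (by rw [mul_smul, hkg, smul_inv_smul])⟩, ?_⟩
        show ((g * k : ↥(LL Z hK)) : ↥(LL Z hK) ⧸ N) = g
        rw [QuotientGroup.eq]
        simpa using hk
    haveI := hsol
    have hq : Group.IsSolvable (↥(LL Z hK) ⧸ N) := Group.isSolvable_of_surjective hsurj
    have hqp : commutator (↥(LL Z hK) ⧸ N) = ⊤ := by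
      have h1 := congrArg (Subgroup.map (QuotientGroup.mk' N)) hperf
      rw [hS, commutator_def, Subgroup.map_commutator, Subgroup.map_top_of_surjective _
        (QuotientGroup.mk'_surjective N)] at h1
      rwa [commutator_def]
    have hsub : Subsingleton (↥(LL Z hK) ⧸ N) := by
      by_contra hns
      rw [not_subsingleton_iff_nontrivial] at hns
      exact (Group.IsSolvable.commutator_lt_top_of_nontrivial (↥(LL Z hK) ⧸ N)).ne hqp
    exact QuotientGroup.subgroup_eq_top_of_subsingleton N hsub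
  refine ⟨⟨hfaith, h2t, h3, ⟨eH Z hK z, hH, pa Z hK, pb Z hK, (pb_ne Z hK).symm, eH_fix Z hK z⟩,
    fun N hN hNt => ?_⟩, hsimple⟩
  haveI := hN
  rcases hsimple.eq_bot_or_eq_top_of_normal N hN with h | h
  · exfalso
    obtain ⟨g, hg⟩ := hNt.exists_smul_eq (pa Z hK) (pb Z hK)
    subst h
    have hg1 : (g : ↥(LL Z hK)) = 1 := Subgroup.mem_bot.1 g.2
    rw [Subgroup.smul_def, hg1, one_smul] at hg
    exact pb_ne Z hK hg.symm
  · refine ⟨pa Z hK, fun hbot => hH ?_⟩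
    have : (⟨eH Z hK z, by rw [h]; trivial⟩ : ↥N) ∈ MulAction.stabilizer ↥N (pa Z hK) :=
      MulAction.mem_stabilizer_iff.2 (eH_fix Z hK z).1
    exact congrArg Subtype.val ((Subgroup.eq_bot_iff_forall _).1 hbot _ this)

/-- the kernel -/
abbrev XX : Subgroup ↥(LL Z hK) := ((DT).X 1).subgroupOf (LL Z hK)

include Z hK hm in
theorem isKernel [Fintype (Pt Z hK)] : CharDeep.Zass.IsKernel (pa Z hK) (XX Z hK) where
  le := fun g hg => MulAction.mem_stabilizer_iff.2 ((fix_pa Z hK).2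
    ((mem_BB Z hK).2 ((DT).U1_le_B1 ((DT).X_le_U1 1 (Subgroup.mem_subgroupOf.1 hg)))))
  card := by
    rw [← Nat.card_eq_fintype_card (α := Pt Z hK), ← Finite.card_option]
    refine Nat.card_congr (Equiv.ofBijective
      (fun o : Option ↥(XX Z hK) => o.elim (pa Z hK) (fun x => (x : ↥(LL Z hK)) • pb Z hK)) ⟨?_, ?_⟩)
    · rintro (_ | x) (_ | y) h
      · rfl
      · exfalso
        exact pb_ne Z hK (MulAction.injective (y : ↥(LL Z hK)) (h.symm.trans
          ((fix_pa Z hK).2 (eX_BB Z hK (Subgroup.mem_subgroupOf.1 y.2))).symm))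
      · exfalso
        exact pb_ne Z hK (MulAction.injective (x : ↥(LL Z hK)) (h.trans
          ((fix_pa Z hK).2 (eX_BB Z hK (Subgroup.mem_subgroupOf.1 x.2))).symm))
      · exact congrArg some (Subtype.ext (Subtype.ext (eX_pb_inj Z hK
          (ha := Subgroup.mem_subgroupOf.1 x.2) (hb := Subgroup.mem_subgroupOf.1 y.2) h)))
    · intro c
      rcases points Z hK hm c with h | ⟨x, hx, h⟩
      · exact ⟨none, h.symm⟩
      · exact ⟨some ⟨eX Z hK x hx, Subgroup.mem_subgroupOf.2 hx⟩, h.symm⟩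
  fix := by
    intro u hu hu1 c hc
    rcases points Z hK hm c with h | ⟨x, hx, h⟩
    · exact h
    exfalso
    subst h
    have hu' := Subgroup.mem_subgroupOf.1 hu
    rw [← mul_smul, show u * eX Z hK x hx = eX Z hK (u * x) (mul_mem hu' hx) from Subtype.ext rfl] at hc
    exact hu1 (Subtype.ext (mul_eq_right.1 (eX_pb_inj Z hK hc)))

include Z hK in
theorem isPGroup_XX : IsPGroup 2 ↥(XX Z hK) := by
  refine IsPGroup.of_card (n := (2 * m + 1) * 2) ?_
  rw [Nat.card_congr (Subgroup.subgroupOfEquivOfLe (fun a ha => X_LL Z hK ha)).toEquiv, card_X1 Z hK,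
    ← pow_mul]

include Z hK hm in
theorem nonabelian : ∃ u v : ↥(XX Z hK), u * v ≠ v * u := by
  classical
  obtain ⟨-, -, -, -, -, hper, -⟩ := pow_facts hK
  obtain ⟨w, hw⟩ : ∃ w : F, w ^ 2 ^ m ≠ w := by
    by_contra h
    push Not at h
    obtain ⟨t, ht⟩ := exists_t Z hK hm
    have h1 := hper (t : F)
    rw [pow_mul, h, mul_comm 2 (2 ^ m), pow_mul, h, pow_two] at h1
    exact ht (Units.ext (mul_left_cancel₀ t.ne_zero (h1.trans (mul_one _).symm)))
  refine ⟨⟨⟨clsW K m 1 0, X_LL Z hK (clsW_mem_X Z hK 1 0)⟩,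
      Subgroup.mem_subgroupOf.2 (clsW_mem_X Z hK 1 0)⟩,
    ⟨⟨clsW K m w 0, X_LL Z hK (clsW_mem_X Z hK w 0)⟩,
      Subgroup.mem_subgroupOf.2 (clsW_mem_X Z hK w 0)⟩, fun h => hw ?_⟩
  have h' : clsW K m (1 : F) 0 * clsW K m w 0 = clsW K m w 0 * clsW K m 1 0 :=
    congrArg (fun u : ↥(XX Z hK) => ((u : ↥(LL Z hK)) : ↥(chevF4.group F))) h
  rw [clsW, clsW, form_mul Z hK, form_mul Z hK] at h'
  have h2 := (form_inj Z hK h').2.2.1
  simp only [one_pow, mul_one, one_mul, add_zero] at h2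
  linear_combination h2

include Z hK hm in
theorem isoSuzuki : Lie.IsoSuzuki ↥(LL Z hK) := by
  obtain ⟨hZ, hs⟩ := zass Z hK hm
  exact CharDeep.SzUniq.isoSuzuki hZ (pb_ne Z hK).symm (U := XX Z hK) (fun {_} => isKernel Z hK hm)
    (isPGroup_XX Z hK) (nonabelian Z hK hm)

end

end Cfsg.Agent.F4Cover55
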