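import Cfsg.Agent.F4Cover55.Coeff

/-!
Torus parameters of the twisted group of type F4 and the fixed points of torus elements (helper55).
-/

set_option autoImplicit false
set_option maxRecDepth 4000
set_option linter.unusedSectionVars false

namespace Cfsg.Agent.F4Cover55

open Cfsg.Lie ChevGroup ChevIsogeny Twisted Twisted.TypeF4

set_option maxHeartbeats 1000000

variable {F : Type*} [Field F] [Fintype F] {m : ℕ} {K : Rels chevF4 F}
  (Z : Frame (T := MT) K PP (2 ^ m) fd) (hK : Fintype.card F = 2 ^ (2 * m + 1))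

set_option quotPrecheck false in
local notation "G₁" => genG MT K (f4Words F (2 ^ m))

set_option quotPrecheck false in
local notation "DT" => (gens Z hK).data

/-- the norm of `a θ + b` is a power of two up to sign -/
def NormOK (a b : ℤ) : Prop := (a ^ 2 - 2 * b ^ 2).natAbs ∈ ([1, 2, 4, 8] : List ℕ)

instance (a b : ℤ) : Decidable (NormOK a b) := inferInstanceAs (Decidable (_ ∈ _))

/-- the two exponents of a root in the parameters -/
def pr (i : Fin MT.tab.l) (r : Fin MT.tab.n) : ℤ := chevF4.pairing ((MT.S).simple i).val r.val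

include hK in
theorem eq_one_of_norm {a b : ℤ} (hn : NormOK a b) {t : Fˣ} (h : (t ^ 2 ^ m) ^ a * t ^ b = 1) :
    t = 1 := by
  have hper : t ^ (2 * 2 ^ m * 2 ^ m) = t := Units.ext (by
    rw [Units.val_pow_eq_pow_val]; exact (pow_facts hK).2.2.2.2.2.1 _)
  set e : ℤ := ((2 ^ m : ℕ) : ℤ) with he
  have h1 : t ^ (e * a + b) = 1 := by
    rw [zpow_add, zpow_mul, he, zpow_natCast]; exact h
  have h2 : t ^ (a ^ 2 - 2 * b ^ 2) = 1 := by
    have h3 : t ^ ((e * a + b) * (2 * a * e - 2 * b)) = 1 := by rw [zpow_mul, h1, one_zpow]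
    have hp : t ^ ((2 * 2 ^ m * 2 ^ m : ℕ) : ℤ) = t := by rw [zpow_natCast, hper]
    have e1 : (e * a + b) * (2 * a * e - 2 * b) =
        ((2 * 2 ^ m * 2 ^ m : ℕ) : ℤ) * a ^ 2 + (-2 * b ^ 2) := by
      simp only [he]; push_cast; ring
    rw [e1, zpow_add, zpow_mul, hp, ← zpow_add] at h3
    rw [show a ^ 2 - 2 * b ^ 2 = a ^ 2 + (-2 * b ^ 2) by ring]
    exact h3
  have h4 : t ^ (a ^ 2 - 2 * b ^ 2).natAbs = 1 := pow_natAbs_eq_one.2 h2
  have hc : t ^ (2 ^ (2 * m + 1) - 1) = 1 := by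
    classical
    rw [← hK, ← Fintype.card_units]; exact pow_card_eq_one
  obtain ⟨j, hj⟩ : ∃ j, (a ^ 2 - 2 * b ^ 2).natAbs = 2 ^ j := by
    simp only [NormOK, List.mem_cons, List.not_mem_nil, or_false] at hn
    rcases hn with h | h | h | h
    exacts [⟨0, h⟩, ⟨1, h⟩, ⟨2, h⟩, ⟨3, h⟩]
  rw [hj] at h4
  refine orderOf_eq_one_iff.1 (Nat.eq_one_of_dvd_coprimes ?_ (orderOf_dvd_of_pow_eq_one h4)
    (orderOf_dvd_of_pow_eq_one hc))
  refine Nat.Coprime.pow_left j (Nat.coprime_two_left.2 ⟨2 ^ (2 * m) - 1, ?_⟩)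
  have : 1 ≤ 2 ^ (2 * m) := Nat.one_le_two_pow
  rw [pow_succ]; omega

include hK in
theorem norm_surj {a b : ℤ} (hn : NormOK a b) (w : Fˣ) : ∃ t : Fˣ, (t ^ 2 ^ m) ^ a * t ^ b = w := by
  let φ : Fˣ →* Fˣ := (zpowGroupHom a).comp (powMonoidHom (2 ^ m)) * zpowGroupHom b
  have hinj : Function.Injective φ := (injective_iff_map_eq_one φ).2 fun t ht => eq_one_of_norm hK hn ht
  exact (Finite.injective_iff_surjective.1 hinj) w

theorem chi_cvec (y z : Fˣ) (r : Fin MT.tab.n) : chi MT (cvec m y z) r =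
    ((y ^ 2 ^ m) ^ pr 0 r * y ^ pr 3 r) * ((z ^ 2 ^ m) ^ pr 1 r * z ^ pr 2 r) := by
  have hh : chi MT (cvec m y z) r =
      (y ^ 2 ^ m) ^ pr 0 r * (z ^ 2 ^ m) ^ pr 1 r * z ^ pr 2 r * y ^ pr 3 r :=
    Fin.prod_univ_four _
  rw [hh]
  simp only [mul_assoc, mul_comm, mul_left_comm]

theorem chi_hi (y z : Fˣ) : chi MT (cvec m y z) hi = y := by
  have h : pr 0 hi = 0 ∧ pr 1 hi = 0 ∧ pr 2 hi = 0 ∧ pr 3 hi = 1 := by decide +kernel
  rw [chi_cvec, h.1, h.2.1, h.2.2.1, h.2.2.2]; simp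

include Z hK in
theorem tor_mem_H1 (y z : Fˣ) : tor MT K (cvec m y z) ∈ (DT).H1 :=
  Subgroup.mem_inf.2 ⟨torus_mem Z hK _ (sig_cvec Z hK y z), Z.tor_mem_H _⟩

include Z hK in
theorem H1_exists {h : ↥(chevF4.group F)} (hh : h ∈ (DT).H1) :
    ∃ y z : Fˣ, h = tor MT K (cvec m y z) := by
  obtain ⟨c, rfl⟩ := Z.exists_tor torOk hh.2
  have hfix := (gens Z hK).fixed _ hh.1
  rw [Z.σ_tor (pre_eq Z)] at hfix
  have h1 : tor MT K (Z.sig pre c * c⁻¹) = 1 := by
    rw [← Z.torHom_apply, map_mul, map_inv, Z.torHom_apply, Z.torHom_apply, hfix, mul_inv_cancel]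
  have h2 := Z.pow_eq_one_of_tor torOk inv_ok h1
  rw [pow_one, mul_inv_eq_one] at h2
  exact ⟨c 3, c 2, congrArg (tor MT K) (fixed_eq_cvec Z h2)⟩

include Z in
theorem commute_tor {c : Fin MT.tab.l → Fˣ} {r : Fin MT.tab.n} (h : chi MT c r = 1) (t : F) :
    Commute (tor MT K c) ((MT.rel K).x r t) := by
  have e := Z.tor_conj c r t
  rw [h, Units.val_one, one_mul, mul_inv_eq_iff_eq_mul] at e
  exact e

include Z in
/-- conjugation of the torus by a monomial element -/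
theorem coset_conj_tor {g : ↥(chevF4.group F)} {w : List (Fin MT.tab.l)} (hg : InCoset (MT.rel K) g w)
    {c c' : Fin MT.tab.l → Fˣ} (h : ∀ r, chi MT c' r = chi MT c ((MT.S).actw w r)) :
    g⁻¹ * tor MT K c * g = tor MT K c' := by
  obtain ⟨t, ht, rfl⟩ := hg
  obtain ⟨ct, rfl⟩ := Z.exists_tor torOk ht
  have hmem : (tor MT K ct * (MT.rel K).nw w)⁻¹ * tor MT K c * (tor MT K ct * (MT.rel K).nw w) =
      ((MT.rel K).nw w)⁻¹ * tor MT K c * (MT.rel K).nw w := by
    have e : tor MT K c * tor MT K ct = tor MT K ct * tor MT K c := by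
      rw [← Z.tor_mul, ← Z.tor_mul, mul_comm]
    calc _ = ((MT.rel K).nw w)⁻¹ * (tor MT K ct)⁻¹ * (tor MT K c * tor MT K ct) * (MT.rel K).nw w := by
          group
      _ = _ := by rw [e]; group
  rw [hmem]
  refine Z.H_ext ((MT.rel K).nw_inv_conj_mem_H w (Z.tor_mem_H c)) (Z.tor_mem_H _) fun s u => ?_
  obtain ⟨e, he, hx⟩ := (MT.rel K).nw_conj w s
  rw [Z.tor_conj, h s]
  calc ((MT.rel K).nw w)⁻¹ * tor MT K c * (MT.rel K).nw w * (MT.rel K).x s u *
        (((MT.rel K).nw w)⁻¹ * tor MT K c * (MT.rel K).nw w)⁻¹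
      = ((MT.rel K).nw w)⁻¹ * (tor MT K c *
          ((MT.rel K).nw w * (MT.rel K).x s u * ((MT.rel K).nw w)⁻¹) * (tor MT K c)⁻¹) *
            (MT.rel K).nw w := by group
    _ = ((MT.rel K).nw w)⁻¹ *
          (MT.rel K).x ((MT.S).actw w s) (e * ((chi MT c ((MT.S).actw w s) : F) * u)) *
            (MT.rel K).nw w := by rw [hx, Z.tor_conj]; congr 3; ring
    _ = _ := by rw [← hx]; group

include Z hK in
/-- a torus element acting without fixed points on an orbit -/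
theorem fix_X (k : Fin 2) {c : Fin MT.tab.l → Fˣ} (hc : ∀ r ∈ fd.O.cls k, chi MT c r ≠ 1)
    {a : ↥(chevF4.group F)} (ha : a ∈ (DT).X k) (h : Commute (tor MT K c) a) : a = 1 := by
  match k with
  | 0 =>
    obtain ⟨t, rfl⟩ := cls0 Z ha.2 ((gens Z hK).fixed a ha.1)
    have e : pairW K m t =
        prodX MT K [24, 33] (two 33 (t ^ 2 ^ m) t) := by
      rw [pairW, Z.prodX_perm (L := [33, 24]) (L' := [24, 33]) (by decide) (list_ok Z _ (by decide))]
    by_cases ht : t = 0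
    · simp [pairW, prodX, two, ht, (MT.rel K).x_zero]
    exfalso
    have hL : List.Sublist ([24, 33] : List (Fin MT.tab.n)) MT.posList := by decide +kernel
    rw [e] at h
    exact hc 24 (by decide +kernel) (Z.chi_eq_one_of_commute hL c _ h 24 (by simp) (by simpa [two] using ht))
  | 1 =>
    obtain ⟨t, u, rfl⟩ := cls1 Z hK ha.2 ((gens Z hK).fixed a ha.1)
    have h2 : tor MT K c * clsW K m t u * (tor MT K c)⁻¹ = clsW K m t u := by
      rw [h.eq, mul_inv_cancel_right]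
    rw [clsW, tor_form Z] at h2
    obtain ⟨e27, e25, e28, e30⟩ := form_inj Z hK h2
    have key : ∀ (r : Fin MT.tab.n) (v : F), r ∈ fd.O.cls 1 → (chi MT c r : F) * v = v → v = 0 := by
      intro r v hr e
      by_contra hv
      exact hc r hr (Units.ext (mul_right_cancel₀ hv (e.trans (one_mul v).symm)))
    have z28 := key 28 _ (by decide +kernel) e28
    have z30 := key 30 _ (by decide +kernel) e30
    rw [clsW, key 27 _ (by decide +kernel) e27, z28, z30, key 25 _ (by decide +kernel) e25]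
    simp [form, prodX, two, (MT.rel K).x_zero]

include Z in
theorem exists_conj_tor {g : ↥(chevF4.group F)} {w : List (Fin MT.tab.l)} (hg : InCoset (MT.rel K) g w)
    (c : Fin MT.tab.l → Fˣ) :
    ∃ c', tor MT K c' = g⁻¹ * tor MT K c * g ∧ ∀ r, chi MT c' r = chi MT c ((MT.S).actw w r) := by
  obtain ⟨t, ht, et⟩ := id hg
  obtain ⟨c', hc'⟩ := Z.exists_tor torOk (h := g⁻¹ * tor MT K c * g) (by
    have := (MT.rel K).nw_inv_conj_mem_H w (mul_mem (mul_mem (inv_mem ht) (Z.tor_mem_H c)) ht)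
    rw [et]
    simpa [mul_assoc] using this)
  refine ⟨c', hc', fun r => ?_⟩
  obtain ⟨e, he, hx⟩ := hg.conj_x r
  have e5 : tor MT K c' * (MT.rel K).x r 1 * (tor MT K c')⁻¹ =
      (MT.rel K).x r (chi MT c ((MT.S).actw w r) : F) := by
    rw [hc']
    calc _ = g⁻¹ * (tor MT K c * (g * (MT.rel K).x r 1 * g⁻¹) * (tor MT K c)⁻¹) * g := by group
      _ = g⁻¹ * (MT.rel K).x ((MT.S).actw w r) (e * (chi MT c ((MT.S).actw w r) : F)) * g := by
        rw [hx, Z.tor_conj]; congr 3; ring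
      _ = _ := by rw [← hx]; group
  rw [Z.tor_conj, mul_one] at e5
  exact Units.ext (Z.iso.x_injective r e5)

include Z hK in
theorem cent_Inv : ∀ (W : List (Fin 2)), (DT).Red W → ∀ (c : Fin MT.tab.l → Fˣ),
    (∀ r, (DT).Inv W r → chi MT c r ≠ 1) → ∀ u ∈ (DT).U1,
      ((DT).nW W)⁻¹ * u * (DT).nW W ∈ V (MT.rel K) → Commute (tor MT K c) u → u = 1 := by
  intro W
  induction W with
  | nil =>
    intro _ c _ u hu hv _
    rw [(DT).nW_nil, inv_one, one_mul, mul_one] at hv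
    exact U_inter_V (MT.rel K) (MT.shapeR K) hu.2 hv
  | cons k W ih =>
    rintro ⟨hk, hW⟩ c hc u hu hv hcom
    obtain ⟨a, ha, d, hd, rfl, ha', -⟩ := (DT).fixed_decomp (MT.shapeR K) k hu.2 ((DT).fixed u hu.1)
    have haX := (DT).X_mem ha ha'
    have hd1 : d ∈ G₁ := by simpa using mul_mem (inv_mem (Subgroup.mem_inf.1 haX).1) (Subgroup.mem_inf.1 hu).1
    set h := tor MT K c with hh
    have hhH : h ∈ (MT.rel K).H := Z.tor_mem_H c
    have e : h * a * h⁻¹ * (h * d * h⁻¹) = a * d := by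
      rw [show h * a * h⁻¹ * (h * d * h⁻¹) = h * (a * d) * h⁻¹ by group, hcom.eq, mul_inv_cancel_right]
    obtain ⟨e1, e2⟩ := (DT).decomp_unique (MT.shapeR K) k (H_conj_Sg _ hhH ha) ha
      (H_conj_Sg _ hhH hd) hd e
    have hclsInv : ∀ r ∈ fd.O.cls k, (DT).Inv (k :: W) r := fun r hr =>
      ⟨(DT).cls_pos k r hr, (DT).back_flip hk r hr⟩
    have ha1 : a = 1 := fix_X Z hK k (fun r hr => hc r (hclsInv r hr)) haX (mul_inv_eq_iff_eq_mul.1 e1)
    subst ha1
    rw [one_mul] at hv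
    obtain ⟨c', hc'', hchi⟩ := exists_conj_tor Z ((DT).nJ_coset k) c
    have h3 := ih hW c' ?_ _ (Subgroup.mem_inf.2 ⟨mul_mem (mul_mem (inv_mem ((DT).nJ_mem k)) hd1)
      ((DT).nJ_mem k), (DT).Uo_le_U k ((DT).nJ_inv_conj_Uo k hd)⟩) (by simpa [mul_assoc] using hv) ?_
    · rw [one_mul]
      exact (conj_eq_one_iff (a := ((DT).nJ k)⁻¹)).1 (by simpa [inv_inv] using h3)
    · intro r hr
      rw [hchi]
      have hnot : r ∉ fd.O.cls k := fun h => (MT.S).not_pos_neg _ (hk r h) hr.2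
      refine hc _ ⟨((DT).wd_other k r hr.1 hnot).1.1, ?_⟩
      rw [(DT).actw_aw_cons_rev, (MT.S).actw_reverse']
      exact hr.2
    · rw [hc'']
      have e6 : h * d = d * h := mul_inv_eq_iff_eq_mul.1 e2
      show (((DT).nJ k)⁻¹ * h * (DT).nJ k) * (((DT).nJ k)⁻¹ * d * (DT).nJ k) = _
      rw [← hh]
      calc _ = ((DT).nJ k)⁻¹ * (h * d) * (DT).nJ k := by group
        _ = _ := by rw [e6]; group

include Z hK in
theorem cent_long {W : List (Fin 2)} (h0 : (DT).Longest W) {c : Fin MT.tab.l → Fˣ}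
    (hc : ∀ r, (MT.S).pos r → chi MT c r ≠ 1) {u : ↥(chevF4.group F)} (hu : u ∈ (DT).U1)
    (h : Commute (tor MT K c) u) : u = 1 :=
  cent_Inv Z hK W h0.1 c (fun r hr => hc r hr.1) u hu
    (((DT).nW_coset W).inv_conj_Sg _ h0.2 (Subgroup.mem_inf.1 hu).2) h

include Z hK in
/-- a torus element regular on the positive roots has no fixed points on `U` -/
theorem cent_U1 {c : Fin MT.tab.l → Fˣ} (hc : ∀ r, (MT.S).pos r → chi MT c r ≠ 1)
    {u : ↥(chevF4.group F)} (hu : u ∈ (DT).U1) (h : Commute (tor MT K c) u) : u = 1 := by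
  exact cent_long Z hK ((gens Z hK).longest long_ok) hc hu h

include Z hK in
/-- the same on the radical of a parabolic subgroup -/
theorem cent_Uo {c : Fin MT.tab.l → Fˣ} (k : Fin 2) {W : List (Fin 2)} (hl : (DT).Longest (k :: W))
    (hc : ∀ r, (MT.S).pos r → r ∉ fd.O.cls k → chi MT c r ≠ 1)
    {u : ↥(chevF4.group F)} (hu1 : u ∈ G₁) (hu : u ∈ (DT).Uo k) (h : Commute (tor MT K c) u) :
    u = 1 := by
  obtain ⟨⟨hk, hW⟩, hneg⟩ := hl
  have hv : ((DT).nW (k :: W))⁻¹ * u * (DT).nW (k :: W) ∈ V (MT.rel K) :=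
    ((DT).nW_coset (k :: W)).inv_conj_Sg _ (fun r hr => hneg r hr.1) hu
  obtain ⟨c', hc', hchi⟩ := exists_conj_tor Z ((DT).nJ_coset k) c
  have h3 := cent_Inv Z hK W hW c' (fun r hr => by
      rw [hchi]
      have hnot : r ∉ fd.O.cls k := fun h => (MT.S).not_pos_neg _ (hk r h) hr.2
      exact hc _ ((DT).wd_other k r hr.1 hnot).1.1 ((DT).wd_other k r hr.1 hnot).1.2)
    _ (Subgroup.mem_inf.2 ⟨mul_mem (mul_mem (inv_mem ((DT).nJ_mem k)) hu1) ((DT).nJ_mem k),
      (DT).Uo_le_U k ((DT).nJ_inv_conj_Uo k hu)⟩)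
    (by simpa [mul_assoc] using hv) (by
      rw [hc']
      have := h.eq
      generalize tor MT K c = h0 at this ⊢
      generalize (DT).nJ k = n
      show (n⁻¹ * h0 * n) * (n⁻¹ * u * n) = (n⁻¹ * u * n) * (n⁻¹ * h0 * n)
      calc _ = n⁻¹ * (h0 * u) * n := by group
        _ = _ := by rw [this]; group)
  exact (conj_eq_one_iff (a := ((DT).nJ k)⁻¹)).1 (by simpa [inv_inv] using h3)

end Cfsg.Agent.F4Cover55
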